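import Cfsg.Agent.Lib.ElemActClass.Kreknin
import Cfsg.Agent.S3779

/-!
A Lie ring with an automorphism of prime order `p` invertible on it, whose fixed points act nilpotently, is
soluble of bounded derived length.
-/

set_option autoImplicit false
set_option linter.unusedSectionVars false
set_option maxHeartbeats 400000

namespace Cfsg.Lib.ElemActClass

open Cfsg.Lib.Lie
open Cfsg.Agent.S3779 (CR om w w_add w_zero sum_w_mul)
open scoped TensorProduct

universe u

/-- The derived series of an additive subgroup of a Lie ring. -/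
def lieDer {L : Type*} [LieRing L] (Y : AddSubgroup L) : ℕ → AddSubgroup L
  | 0 => Y
  | j + 1 => AddSubgroup.closure {z | ∃ x ∈ lieDer Y j, ∃ y ∈ lieDer Y j, z = ⁅x, y⁆}

theorem bracket_mem_lieDer {L : Type*} [LieRing L] {Y : AddSubgroup L} {j : ℕ} {x y : L} (hx : x ∈ lieDer Y j)
    (hy : y ∈ lieDer Y j) : ⁅x, y⁆ ∈ lieDer Y (j + 1) :=
  AddSubgroup.subset_closure ⟨x, hx, y, hy, rfl⟩

theorem mem_of_nsmul_mem {M : Type*} [AddCommGroup M] {m N : ℕ} (hco : m.Coprime N) {H : AddSubgroup M} {z : M}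
    (hN : N • z = 0) (hz : m • z ∈ H) : z ∈ H := by
  have h : ((m.gcd N : ℤ)) • z = z := by rw [hco, Nat.cast_one, one_zsmul]
  rw [Nat.gcd_eq_gcd_ab, add_zsmul, mul_comm, mul_comm (N : ℤ), mul_zsmul, mul_zsmul, natCast_zsmul,
    natCast_zsmul, hN, zsmul_zero, add_zero] at h
  rw [← h]
  exact zsmul_mem hz _

variable {L : Type u} [LieRing L] {p : ℕ} [hp : Fact p.Prime] {φ : L →+ L}

theorem t_lie_add (x y z : CR p ⊗[ℤ] L) : ⁅x, y + z⁆ = ⁅x, y⁆ + ⁅x, z⁆ :=
  lie_add (L := CR p ⊗[ℤ] L) (M := CR p ⊗[ℤ] L) x y z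

theorem t_lie_zero (x : CR p ⊗[ℤ] L) : ⁅x, (0 : CR p ⊗[ℤ] L)⁆ = 0 :=
  lie_zero (L := CR p ⊗[ℤ] L) (M := CR p ⊗[ℤ] L) x

theorem t_smul_lie_smul (r s : CR p) (x y : CR p ⊗[ℤ] L) : ⁅r • x, s • y⁆ = (r * s) • ⁅x, y⁆ :=
  ((smul_lie (L := CR p ⊗[ℤ] L) (M := CR p ⊗[ℤ] L) r x (s • y)).trans
    (congrArg (r • ·) (lie_smul (L := CR p ⊗[ℤ] L) (M := CR p ⊗[ℤ] L) s x y))).trans (smul_smul r s _)

/-- The extended endomorphism. -/
noncomputable def ext' (φ : L →+ L) : CR p ⊗[ℤ] L →ₗ[CR p] CR p ⊗[ℤ] L :=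
  φ.toIntLinearMap.baseChange (CR p)

theorem ext'_tmul (r : CR p) (a : L) : ext' φ (r ⊗ₜ[ℤ] a) = r ⊗ₜ[ℤ] φ a := rfl

theorem ext'_lie (hlie : ∀ a b : L, φ ⁅a, b⁆ = ⁅φ a, φ b⁆) (x y : CR p ⊗[ℤ] L) :
    ext' φ ⁅x, y⁆ = ⁅ext' φ x, ext' φ y⁆ := by
  induction x using TensorProduct.induction_on with
  | zero => rw [zero_lie, map_zero, zero_lie]
  | add a b ha hb => rw [add_lie, map_add, map_add, add_lie, ha, hb]
  | tmul r a =>
    induction y using TensorProduct.induction_on with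
    | zero => rw [t_lie_zero, map_zero, t_lie_zero]
    | add b d hb hd => rw [t_lie_add, map_add, map_add, t_lie_add, hb, hd]
    | tmul s b =>
      rw [LieAlgebra.ExtendScalars.bracket_tmul, ext'_tmul, ext'_tmul, ext'_tmul,
        LieAlgebra.ExtendScalars.bracket_tmul, hlie]

/-- The eigencomponents. -/
noncomputable def eig' (φ : L →+ L) (j : ZMod p) : AddSubgroup (CR p ⊗[ℤ] L) :=
  (LinearMap.ker (ext' φ - w j • LinearMap.id)).toAddSubgroup

theorem mem_eig' {j : ZMod p} {v : CR p ⊗[ℤ] L} : v ∈ eig' φ j ↔ ext' φ v = w j • v := by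
  rw [eig', Submodule.mem_toAddSubgroup, LinearMap.mem_ker, LinearMap.sub_apply, sub_eq_zero]
  rfl

theorem eig'_mul (hlie : ∀ a b : L, φ ⁅a, b⁆ = ⁅φ a, φ b⁆) : IsMulFam (eig' (p := p) φ) := by
  intro i j x y hx hy
  rw [mem_eig'] at hx hy ⊢
  rw [ext'_lie hlie, hx, hy, t_smul_lie_smul, w_add]

/-- Soluble of bounded derived length. -/
theorem lieDer_top_eq_bot (hlie : ∀ a b : L, φ ⁅a, b⁆ = ⁅φ a, φ b⁆) (hord : ∀ a : L, φ^[p] a = a) {N m : ℕ}
    (hco : p.Coprime N) (hN : ∀ a : L, N • a = 0) (Y : AddSubgroup L)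
    (hY : ∀ a : L, ∑ t : ZMod p, φ^[t.val] a ∈ Y) (hm : mulPow (⊤ : AddSubgroup L) (Y : Set L) m = ⊥) :
    lieDer (⊤ : AddSubgroup L) (kLen m (p - 1) + m) = ⊥ := by
  have hN' : ∀ v : CR p ⊗[ℤ] L, N • v = 0 := fun v => by
    induction v using TensorProduct.induction_on with
    | zero => rw [smul_zero]
    | add a b ha hb => rw [smul_add, ha, hb, add_zero]
    | tmul r a => rw [← TensorProduct.tmul_smul, hN, TensorProduct.tmul_zero]
  have hit : ∀ (i j : ZMod p) (a : L), φ^[i.val] (φ^[j.val] a) = φ^[(i + j).val] a := by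
    intro i j a
    rw [← Function.iterate_add_apply, ZMod.val_add]
    have h2 : ∀ q : ℕ, φ^[p * q] a = a := fun q => by
      induction q with
      | zero => rfl
      | succ q ihq => rw [Nat.mul_succ, Function.iterate_add_apply, hord, ihq]
    conv_lhs => rw [← Nat.mod_add_div (i.val + j.val) p, Function.iterate_add_apply, h2]
  -- the zero component
  have hpt : ∀ (v : CR p ⊗[ℤ] L) (q : ℕ), ext' φ v = v → (ext' (p := p) φ ^ q) v = v := by
    intro v q hv
    induction q with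
    | zero => rfl
    | succ q ihq => rw [pow_succ, Module.End.mul_apply, hv, ihq]
  have hsum : ∀ v : CR p ⊗[ℤ] L, (∑ t : ZMod p, (ext' (p := p) φ ^ t.val) v) ∈
      AddSubgroup.closure {z | ∃ r : CR p, ∃ y ∈ Y, z = r ⊗ₜ[ℤ] y} := by
    intro v
    induction v using TensorProduct.induction_on with
    | zero => simp
    | add a b ha hb => simp only [map_add, Finset.sum_add_distrib]; exact add_mem ha hb
    | tmul r a =>
      have h : ∀ q : ℕ, (ext' (p := p) φ ^ q) (r ⊗ₜ[ℤ] a) = r ⊗ₜ[ℤ] φ^[q] a := fun q => by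
        induction q with
        | zero => rfl
        | succ q ihq => rw [pow_succ', Module.End.mul_apply, ihq, ext'_tmul, Function.iterate_succ_apply']
      simp only [h, ← TensorProduct.tmul_sum]
      exact AddSubgroup.subset_closure ⟨r, _, hY a, rfl⟩
  have hzero : eig' (p := p) φ 0 ≤ AddSubgroup.closure {z | ∃ r : CR p, ∃ y ∈ Y, z = r ⊗ₜ[ℤ] y} := by
    intro v hv
    rw [mem_eig', w_zero, one_smul] at hv
    refine mem_of_nsmul_mem (m := p) hco (hN' v) ?_
    have h := hsum v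
    rwa [Finset.sum_congr rfl fun t _ => hpt v t.val hv, Finset.sum_const, Finset.card_univ, ZMod.card] at h
  have hpow : ∀ j, mulPow (⊤ : AddSubgroup (CR p ⊗[ℤ] L)) {z | ∃ r : CR p, ∃ y ∈ Y, z = r ⊗ₜ[ℤ] y} j ≤
      AddSubgroup.closure {z | ∃ r : CR p, ∃ a ∈ mulPow (⊤ : AddSubgroup L) (Y : Set L) j, z = r ⊗ₜ[ℤ] a} := by
    intro j
    induction j with
    | zero =>
      intro v _
      induction v using TensorProduct.induction_on with
      | zero => exact zero_mem _
      | add a b ha hb => exact add_mem (ha trivial) (hb trivial)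
      | tmul r a => exact AddSubgroup.subset_closure ⟨r, a, trivial, rfl⟩
    | succ j ihj =>
      refine (AddSubgroup.closure_le _).2 ?_
      rintro _ ⟨v, hv, _, ⟨r, y, hy, rfl⟩, rfl⟩
      refine bracket_mem_of_closure (T := {r ⊗ₜ[ℤ] y}) ?_ (ihj hv) (AddSubgroup.subset_closure rfl)
      rintro _ ⟨r₁, a, ha, rfl⟩ _ rfl
      rw [LieAlgebra.ExtendScalars.bracket_tmul]
      exact AddSubgroup.subset_closure ⟨_, _, mem_mulPow_succ ha hy, rfl⟩
  have hkill : mulPow (⊤ : AddSubgroup (CR p ⊗[ℤ] L)) (eig' (p := p) φ 0 : Set (CR p ⊗[ℤ] L)) m = ⊥ := by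
    rw [eq_bot_iff]
    refine (mulPow_mono le_rfl hzero m).trans ((mulPow_closure _ _ m).trans ((hpow m).trans
      ((AddSubgroup.closure_le _).2 ?_)))
    rintro _ ⟨r, a, ha, rfl⟩
    rw [hm, AddSubgroup.mem_bot] at ha
    rw [ha, TensorProduct.tmul_zero]
    exact zero_mem _
  -- decompose and transport
  set f := kLen m (p - 1) + m
  have hder : ∀ j, ∀ a ∈ lieDer (⊤ : AddSubgroup L) j, (1 : CR p) ⊗ₜ[ℤ] a ∈ ⨆ i, derSub (eig' (p := p) φ) j i := by
    intro j
    induction j with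
    | zero =>
      intro a _
      refine mem_of_nsmul_mem (m := p) hco (hN' _) ?_
      have hs : ∑ j : ZMod p, ∑ i : ZMod p, w (-(i * j)) ⊗ₜ[ℤ] φ^[i.val] a = p • ((1 : CR p) ⊗ₜ[ℤ] a) := by
        rw [Finset.sum_comm]
        simp only [← TensorProduct.sum_tmul, sum_w_mul]
        rw [Finset.sum_eq_single (0 : ZMod p) (fun i _ hi => by rw [if_neg hi, TensorProduct.zero_tmul]) (by simp),
          if_pos rfl, ZMod.val_zero, TensorProduct.smul_tmul', nsmul_one]
        rfl
      rw [← hs]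
      refine sum_mem fun j _ => AddSubgroup.mem_iSup_of_mem j ?_
      rw [derSub_zero, mem_eig', map_sum, Finset.smul_sum]
      refine Finset.sum_equiv (Equiv.addLeft (1 : ZMod p)) (fun _ => by simp) fun i _ => ?_
      have e : φ (φ^[i.val] a) = φ^[(1 + i).val] a := by
        have h := hit 1 i a
        rwa [ZMod.val_one, Function.iterate_one] at h
      rw [ext'_tmul, e, TensorProduct.smul_tmul', smul_eq_mul, ← w_add]
      congr 2
      show -(i * j) = j + -((1 + i) * j)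
      ring
    | succ j ihj =>
      intro a ha
      induction ha using AddSubgroup.closure_induction with
      | zero => rw [TensorProduct.tmul_zero]; exact zero_mem _
      | add x y _ _ hx hy => rw [TensorProduct.tmul_add]; exact add_mem hx hy
      | neg x _ hx => rw [TensorProduct.tmul_neg]; exact neg_mem hx
      | mem z hz =>
        obtain ⟨x, hx, y, hy, rfl⟩ := hz
        have h1 := ihj x hx
        have h2 := ihj y hy
        rw [AddSubgroup.iSup_eq_closure] at h1 h2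
        have h3 := bracket_mem_of_closure (U := ⨆ i, derSub (eig' (p := p) φ) (j + 1) i) (fun u hu v hv => by
          obtain ⟨i₁, hu⟩ := Set.mem_iUnion.1 hu
          obtain ⟨i₂, hv⟩ := Set.mem_iUnion.1 hv
          exact AddSubgroup.mem_iSup_of_mem (i₁ + i₂) (bracket_derSub hu hv)) h1 h2
        rwa [LieAlgebra.ExtendScalars.bracket_tmul, one_mul] at h3
  rw [eq_bot_iff]
  intro a ha
  have h := hder f a ha
  rw [show (⨆ i, derSub (eig' (p := p) φ) f i) = ⊥ from iSup_eq_bot.2 fun i =>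
    derSub_eq_bot_of_kills (eig'_mul hlie) hkill i, AddSubgroup.mem_bot] at h
  let pb := AdjoinRoot.powerBasis' (Polynomial.cyclotomic.monic p ℤ)
  let e := TensorProduct.equivFinsuppOfBasisLeft (N := L) pb.basis
  have hd : 0 < pb.dim := by
    simp only [pb, AdjoinRoot.powerBasis'_dim, Polynomial.natDegree_cyclotomic]
    exact Nat.totient_pos.2 hp.out.pos
  have h2 := congrArg (fun v => e v ⟨0, hd⟩) h
  simp only [e, TensorProduct.equivFinsuppOfBasisLeft_apply_tmul_apply, map_zero, Finsupp.zero_apply] at h2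
  have h3 : pb.basis.repr 1 ⟨0, hd⟩ = 1 := by
    have : (1 : CR p) = pb.basis ⟨0, hd⟩ := by rw [pb.basis_eq_pow, pow_zero]
    rw [this, Module.Basis.repr_self, Finsupp.single_eq_same]
  rw [h3, one_smul] at h2
  exact h2

end Cfsg.Lib.ElemActClass
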