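import Cfsg.Agent.Lib.Lie.Kreknin

/-!
Repeated brackets with a set of elements, and a criterion for a set covered by few nilpotently acting pieces
to act nilpotently.
-/

set_option autoImplicit false

namespace Cfsg.Lib.ElemActClass

open Cfsg.Lib.Lie

variable {L : Type*} [LieRing L]

/-- The span of brackets of elements of `Y` with `j` successive elements of `T`. -/
def mulPow (Y : AddSubgroup L) (T : Set L) : ℕ → AddSubgroup L
  | 0 => Y
  | j + 1 => AddSubgroup.closure {z | ∃ y ∈ mulPow Y T j, ∃ t ∈ T, z = ⁅y, t⁆}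

theorem mem_mulPow_succ {Y : AddSubgroup L} {T : Set L} {j : ℕ} {y t : L} (hy : y ∈ mulPow Y T j) (ht : t ∈ T) :
    ⁅y, t⁆ ∈ mulPow Y T (j + 1) :=
  AddSubgroup.subset_closure ⟨y, hy, t, ht, rfl⟩

theorem mulPow_mono {Y Y' : AddSubgroup L} {T T' : Set L} (hY : Y ≤ Y') (hT : T ⊆ T') :
    ∀ j, mulPow Y T j ≤ mulPow Y' T' j := by
  intro j
  induction j with
  | zero => exact hY
  | succ j ih =>
    refine (AddSubgroup.closure_le _).2 ?_
    rintro _ ⟨y, hy, t, ht, rfl⟩
    exact mem_mulPow_succ (ih hy) (hT ht)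

theorem mulPow_closure (Y : AddSubgroup L) (T : Set L) :
    ∀ j, mulPow Y (AddSubgroup.closure T : Set L) j ≤ mulPow Y T j := by
  intro j
  induction j with
  | zero => exact le_rfl
  | succ j ih =>
    refine (AddSubgroup.closure_le _).2 ?_
    rintro _ ⟨y, hy, t, ht, rfl⟩
    exact bracket_mem_of_closure (S := (mulPow Y T j : Set L)) (T := T) (U := mulPow Y T (j + 1))
      (fun s hs t ht => mem_mulPow_succ hs ht) (AddSubgroup.subset_closure (ih hy)) ht

theorem mulPow_add (Y : AddSubgroup L) (T : Set L) (i : ℕ) :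
    ∀ j, mulPow (mulPow Y T i) T j = mulPow Y T (i + j) := by
  intro j
  induction j with
  | zero => rfl
  | succ j ih =>
    show AddSubgroup.closure {z | ∃ y ∈ mulPow (mulPow Y T i) T j, ∃ t ∈ T, z = ⁅y, t⁆} = _
    rw [ih]
    rfl

theorem mulPow_bot (T : Set L) : ∀ j, mulPow ⊥ T j = ⊥ := by
  intro j
  induction j with
  | zero => rfl
  | succ j ih =>
    rw [eq_bot_iff]
    refine (AddSubgroup.closure_le _).2 ?_
    rintro _ ⟨y, hy, t, -, rfl⟩
    rw [ih, AddSubgroup.mem_bot] at hy
    simp [hy]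

/-- A bracket with successive elements of a list. -/
def iterL (u : L) (l : List L) : L := l.foldl (fun v t => ⁅v, t⁆) u

theorem iterL_cons (u t : L) (l : List L) : iterL u (t :: l) = iterL ⁅u, t⁆ l := rfl

theorem iterL_append (u : L) (l l' : List L) : iterL u (l ++ l') = iterL (iterL u l) l' := List.foldl_append

theorem iterL_zero (l : List L) : iterL (0 : L) l = 0 := by
  induction l with
  | nil => rfl
  | cons t l ih => rw [iterL_cons, zero_lie, ih]

theorem iterL_sub (l : List L) : ∀ u v : L, iterL (u - v) l = iterL u l - iterL v l := by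
  induction l with
  | nil => exact fun u v => rfl
  | cons t l ih => intro u v; rw [iterL_cons, iterL_cons, iterL_cons, sub_lie, ih]

theorem iterL_mem_mulPow {Y : AddSubgroup L} {T : Set L} : ∀ (l : List L) (j : ℕ) (u : L), u ∈ mulPow Y T j →
    (∀ t ∈ l, t ∈ T) → iterL u l ∈ mulPow Y T (j + l.length) := by
  intro l
  induction l with
  | nil => intro j u hu _; simpa [iterL] using hu
  | cons t l ih =>
    intro j u hu hl
    rw [iterL_cons, List.length_cons, show j + (l.length + 1) = (j + 1) + l.length by omega]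
    exact ih (j + 1) _ (mem_mulPow_succ hu (hl t List.mem_cons_self)) fun s hs => hl s (List.mem_cons_of_mem t hs)

theorem iterL_add (l : List L) : ∀ u v : L, iterL (u + v) l = iterL u l + iterL v l := by
  induction l with
  | nil => exact fun u v => rfl
  | cons t l ih => intro u v; rw [iterL_cons, iterL_cons, iterL_cons, add_lie, ih]

theorem mulPow_le_closure (Y : AddSubgroup L) (T : Set L) :
    ∀ j, mulPow Y T j ≤ AddSubgroup.closure
      {z | ∃ y ∈ Y, ∃ l : List L, (∀ t ∈ l, t ∈ T) ∧ l.length = j ∧ z = iterL y l} := by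
  intro j
  induction j with
  | zero => intro y hy; exact AddSubgroup.subset_closure ⟨y, hy, [], by simp, rfl, rfl⟩
  | succ j ih =>
    refine (AddSubgroup.closure_le _).2 ?_
    rintro _ ⟨y, hy, t, ht, rfl⟩
    refine bracket_mem_of_closure (T := {t}) ?_ (ih hy) (AddSubgroup.subset_closure rfl)
    rintro _ ⟨y, hy, l, hl, hlen, rfl⟩ r (rfl : r = t)
    refine AddSubgroup.subset_closure ⟨y, hy, l ++ [r], ?_, by simp [hlen], ?_⟩
    · intro s hs
      rcases List.mem_append.1 hs with hs | hs
      · exact hl s hs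
      · rw [List.mem_singleton.1 hs]; exact ht
    · rw [iterL_append]; rfl

/-- Two lists that differ by a permutation act alike modulo a stable subgroup absorbing brackets of pairs. -/
theorem iterL_perm {Q R : AddSubgroup L} {T : Set L} (hQ : ∀ q ∈ Q, ∀ t ∈ T, ⁅q, t⁆ ∈ Q)
    (hR : ∀ q ∈ R, ∀ t ∈ T, ⁅q, t⁆ ∈ R) (hQR : ∀ q ∈ Q, ∀ s ∈ T, ∀ t ∈ T, ⁅q, ⁅s, t⁆⁆ ∈ R) {l l' : List L}
    (h : l.Perm l') : (∀ t ∈ l, t ∈ T) → ∀ u ∈ Q, iterL u l - iterL u l' ∈ R := by
  induction h with
  | nil => intro _ u _; rw [sub_self]; exact zero_mem _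
  | cons t _ ih =>
    intro hl u hu
    exact ih (fun s hs => hl s (List.mem_cons_of_mem t hs)) _ (hQ u hu t (hl t List.mem_cons_self))
  | swap a b l =>
    intro hl u hu
    rw [iterL_cons, iterL_cons, iterL_cons, iterL_cons, ← iterL_sub]
    have hb : b ∈ T := hl b List.mem_cons_self
    have ha : a ∈ T := hl a (List.mem_cons_of_mem b List.mem_cons_self)
    have e : ⁅⁅u, b⁆, a⁆ - ⁅⁅u, a⁆, b⁆ = ⁅u, ⁅b, a⁆⁆ := by
      rw [leibniz_lie u b a, ← lie_skew ⁅u, a⁆ b]; abel
    rw [e]
    have hmem : ∀ (m : List L), (∀ t ∈ m, t ∈ T) → ∀ q ∈ R, iterL q m ∈ R := by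
      intro m
      induction m with
      | nil => exact fun _ q hq => hq
      | cons t m ihm =>
        intro hm q hq
        exact ihm (fun s hs => hm s (List.mem_cons_of_mem t hs)) _ (hR q hq t (hm t List.mem_cons_self))
    exact hmem l (fun t ht => hl t (List.mem_cons_of_mem b (List.mem_cons_of_mem a ht))) _ (hQR u hu b hb a ha)
  | @trans l₁ l₂ l₃ h₁ _ ih₁ ih₂ =>
    intro hl u hu
    rw [show iterL u l₁ - iterL u l₃ = (iterL u l₁ - iterL u l₂) + (iterL u l₂ - iterL u l₃) by abel]
    exact add_mem (ih₁ hl u hu) (ih₂ (fun t ht => hl t (h₁.mem_iff.2 ht)) u hu)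

/-- A set covered by `s` pieces, each killing the ring in `c + 1` steps, with a finite derived filtration
kills the ring in `(s * c + 1) ^ e` steps. -/
theorem mulPow_eq_bot_of_cover {ι : Type*} [Fintype ι] {s c : ℕ} (hι : Fintype.card ι ≤ s) (P : ι → Set L)
    (hP : ∀ i, mulPow (⊤ : AddSubgroup L) (P i) (c + 1) = ⊥) :
    ∀ (e : ℕ) (S : ℕ → Set L), S 0 ⊆ ⋃ i, P i → (∀ n, S (n + 1) ⊆ S n) →
      (∀ n, ∀ x ∈ S n, ∀ y ∈ S n, ⁅x, y⁆ ∈ AddSubgroup.closure (S (n + 1))) → S e ⊆ {0} →
      mulPow (⊤ : AddSubgroup L) (S 0) ((s * c + 1) ^ e) = ⊥ := by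
  classical
  intro e
  induction e with
  | zero =>
    intro S _ _ _ h0
    rw [pow_zero, eq_bot_iff]
    refine (AddSubgroup.closure_le _).2 ?_
    rintro _ ⟨y, -, t, ht, rfl⟩
    rw [Set.mem_singleton_iff.1 (h0 ht), lie_zero]
    exact zero_mem _
  | succ e ih =>
    intro S hcov hanti hbr h0
    have hg := ih (fun n => S (n + 1)) ((hanti 0).trans hcov) (fun n => hanti (n + 1)) (fun n => hbr (n + 1)) h0
    set N := s * c + 1 with hN
    set g := N ^ e
    set Q : ℕ → AddSubgroup L := fun j => ⨆ i, mulPow (mulPow ⊤ (S 1) j) (S 0) i with hQdef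
    have hQlev : ∀ j i, mulPow (mulPow ⊤ (S 1) j) (S 0) i ≤ Q j := fun j i =>
      le_iSup (fun i => mulPow (mulPow ⊤ (S 1) j) (S 0) i) i
    have hstab : ∀ j, ∀ q ∈ Q j, ∀ t ∈ S 0, ⁅q, t⁆ ∈ Q j := by
      intro j q hq t ht
      induction hq using AddSubgroup.iSup_induction' with
      | hp i x hx => exact hQlev j (i + 1) (mem_mulPow_succ hx ht)
      | h1 => rw [zero_lie]; exact zero_mem _
      | hadd x y _ _ hx hy => rw [add_lie]; exact add_mem hx hy
    have hdown : ∀ j i, ∀ q ∈ mulPow (mulPow ⊤ (S 1) j) (S 0) i, ∀ m ∈ AddSubgroup.closure (S 1),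
        ⁅q, m⁆ ∈ Q (j + 1) := by
      intro j i
      induction i with
      | zero =>
        intro q hq m hm
        exact bracket_mem_of_closure (S := (mulPow ⊤ (S 1) j : Set L)) (T := S 1)
          (fun x hx y hy => hQlev (j + 1) 0 (mem_mulPow_succ hx hy)) (AddSubgroup.subset_closure hq) hm
      | succ i ihi =>
        intro q hq m hm
        refine bracket_mem_of_closure (S := {z | ∃ y ∈ mulPow (mulPow ⊤ (S 1) j) (S 0) i, ∃ t ∈ S 0, z = ⁅y, t⁆})
          (T := S 1) ?_ hq hm
        rintro _ ⟨y, hy, t, ht, rfl⟩ m hm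
        have e1 : ⁅⁅y, t⁆, m⁆ = ⁅⁅y, m⁆, t⁆ + ⁅y, ⁅t, m⁆⁆ := by
          rw [leibniz_lie y t m, ← lie_skew ⁅y, m⁆ t]; abel
        rw [e1]
        refine add_mem (hstab (j + 1) _ (ihi y hy m (AddSubgroup.subset_closure hm)) t ht) ?_
        exact ihi y hy _ (hbr 0 t ht m (hanti 0 hm))
    have hQdown : ∀ j, ∀ q ∈ Q j, ∀ m ∈ AddSubgroup.closure (S 1), ⁅q, m⁆ ∈ Q (j + 1) := by
      intro j q hq m hm
      induction hq using AddSubgroup.iSup_induction' with
      | hp i x hx => exact hdown j i x hx m hm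
      | h1 => rw [zero_lie]; exact zero_mem _
      | hadd x y _ _ hx hy => rw [add_lie]; exact add_mem hx hy
    have hblock : ∀ j, mulPow (Q j) (S 0) N ≤ Q (j + 1) := by
      intro j
      refine (mulPow_le_closure _ _ _).trans ((AddSubgroup.closure_le _).2 ?_)
      rintro _ ⟨y, hy, l, hl, hlen, rfl⟩
      -- a piece containing more than `c` of the entries
      have hex : ∃ i, c + 1 ≤ (l.filter fun t => decide (t ∈ P i)).length := by
        by_contra hno
        push Not at hno
        have h1 : l.length ≤ ∑ i, (l.filter fun t => decide (t ∈ P i)).length := by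
          clear hlen hno
          induction l with
          | nil => simp
          | cons t l ihl =>
            obtain ⟨i0, hi0⟩ := Set.mem_iUnion.1 (hcov (hl t List.mem_cons_self))
            have h2 := ihl fun r hr => hl r (List.mem_cons_of_mem t hr)
            have h3 : ∑ i, (l.filter fun r => decide (r ∈ P i)).length <
                ∑ i, ((t :: l).filter fun r => decide (r ∈ P i)).length := by
              refine Finset.sum_lt_sum (fun i _ => ?_) ⟨i0, Finset.mem_univ _, ?_⟩
              · rw [List.filter_cons]; split <;> simp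
              · rw [List.filter_cons, if_pos (by simpa using hi0)]; simp
            simp only [List.length_cons]
            omega
        have h4 : ∑ i : ι, (l.filter fun t => decide (t ∈ P i)).length ≤ Fintype.card ι * c := by
          refine le_trans (Finset.sum_le_sum fun i _ => Nat.lt_succ_iff.1 (hno i)) ?_
          simp
        have h5 : Fintype.card ι * c ≤ s * c := Nat.mul_le_mul_right _ hι
        omega
      obtain ⟨i, hi⟩ := hex
      have hperm : List.Perm l ((l.filter fun t => decide (t ∈ P i)) ++ (l.filter fun t => !decide (t ∈ P i))) :=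
        (List.filter_append_perm _ l).symm
      have h1 := iterL_perm (hstab j) (hstab (j + 1))
        (fun q hq a ha b hb => hQdown j q hq _ (hbr 0 a ha b hb)) hperm hl y hy
      have h2 : iterL y (l.filter fun t => decide (t ∈ P i)) = 0 := by
        set l' := l.filter fun t => decide (t ∈ P i)
        rw [← List.take_append_drop (c + 1) l', iterL_append]
        have h3 : iterL y (l'.take (c + 1)) ∈ mulPow (⊤ : AddSubgroup L) (P i) (0 + (l'.take (c + 1)).length) :=
          iterL_mem_mulPow _ 0 y (AddSubgroup.mem_top y) fun t ht =>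
            of_decide_eq_true (List.of_mem_filter (p := fun t => decide (t ∈ P i)) (List.mem_of_mem_take ht))
        rw [List.length_take, Nat.min_eq_left hi, Nat.zero_add, hP i, AddSubgroup.mem_bot] at h3
        rw [h3, iterL_zero]
      rw [iterL_append, h2, iterL_zero, sub_zero] at h1
      exact h1
    have hall : ∀ j, mulPow ⊤ (S 0) (N * j) ≤ Q j := by
      intro j
      induction j with
      | zero => exact hQlev 0 0
      | succ j ihj =>
        rw [Nat.mul_succ, ← mulPow_add]
        exact (mulPow_mono ihj subset_rfl N).trans (hblock j)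
    rw [eq_bot_iff, pow_succ']
    refine (hall g).trans (iSup_le fun i => ?_)
    rw [hg, mulPow_bot]

end Cfsg.Lib.ElemActClass
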