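import Cfsg.Agent.Lib.ElemActClass.Kills

/-!
Kreknin's theorem with a zero component acting nilpotently: in a `ZMod n`-graded Lie ring on which the zero
component acts nilpotently of class `m`, a term of the derived series of index depending on `n` and `m` vanishes.
-/

set_option autoImplicit false

namespace Cfsg.Lib.ElemActClass

open Cfsg.Lib.Lie

/-- The length of the derived series needed to clear the degrees up to `k`. -/
def kLen (m : ℕ) : ℕ → ℕ
  | 0 => 0
  | k + 1 => m * (kLen m k + 1) + kLen m k

variable {L : Type*} [LieRing L] {n : ℕ} {A : ZMod n → AddSubgroup L}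

/-- The family multiplies as a grading. -/
def IsMulFam (A : ZMod n → AddSubgroup L) : Prop :=
  ∀ ⦃i j : ZMod n⦄ ⦃x y : L⦄, x ∈ A i → y ∈ A j → ⁅x, y⁆ ∈ A (i + j)

theorem fam_derSub_succ_le (hA : IsMulFam A) : ∀ m i, derSub A (m + 1) i ≤ derSub A m i := by
  intro m
  induction m with
  | zero =>
    intro i
    rw [derSub_zero, derSub, AddSubgroup.closure_le]
    rintro _ ⟨a, b, x, y, rfl, hx, hy, rfl⟩
    exact hA hx hy
  | succ m ih =>
    intro i
    rw [derSub, AddSubgroup.closure_le]
    rintro _ ⟨a, b, x, y, rfl, hx, hy, rfl⟩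
    exact bracket_derSub (ih a (AddSubgroup.subset_closure hx)) (ih b (AddSubgroup.subset_closure hy))

theorem fam_derSub_le (hA : IsMulFam A) (m : ℕ) (i : ZMod n) : derSub A m i ≤ A i := by
  induction m with
  | zero => rw [derSub_zero]
  | succ m ih => exact (fam_derSub_succ_le hA m i).trans ih

theorem fam_derSub (hA : IsMulFam A) (m : ℕ) : IsMulFam (derSub A m) :=
  fun _ _ _ _ hx hy => fam_derSub_succ_le hA m _ (bracket_derSub hx hy)

theorem derSub_add_le (k m : ℕ) (i : ZMod n) : derSub A (k + m) i ≤ derSub (derSub A k) m i :=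
  AddSubgroup.closure_mono (der_add_le k m i)

theorem fam_mon_mem (hA : IsMulFam A) {k : ℕ} {i : ZMod n} {x : L} (h : Mon A k i x) : x ∈ A i := by
  induction h with
  | base _ hx => exact hx
  | mul _ _ hx hy => exact hA hx hy

theorem monSub_mono {A' : ZMod n → AddSubgroup L} (h : ∀ i, A' i ≤ A i) (k : ℕ) (i : ZMod n) :
    monSub A' k i ≤ monSub A k i := by
  refine AddSubgroup.closure_mono fun x hx => ?_
  induction hx with
  | base hk hx => exact Mon.base hk (h _ hx)
  | mul _ _ hu hv => exact Mon.mul hu hv

/-- The zero component stabilises the monomials. -/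
theorem monSub_bracket_zero (hA : IsMulFam A) {k : ℕ} {i : ZMod n} {x z : L} (hx : x ∈ monSub A k i)
    (hz : z ∈ A 0) : ⁅x, z⁆ ∈ monSub A k i := by
  refine bracket_mem_of_closure (T := {z}) ?_ hx (AddSubgroup.subset_closure rfl)
  rintro s hs t (rfl : t = z)
  simp only [Set.mem_ofPred_eq] at hs
  clear hx
  induction hs with
  | @base i x hk hx =>
    have h := hA hx hz
    rw [add_zero] at h
    exact AddSubgroup.subset_closure (Mon.base hk h)
  | @mul a b u v hu hv ihu ihv =>
    have e : ⁅⁅u, v⁆, t⁆ = ⁅u, ⁅v, t⁆⁆ + ⁅⁅u, t⁆, v⁆ := by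
      rw [leibniz_lie u v t, ← lie_skew ⁅u, t⁆ v]; abel
    rw [e]
    exact add_mem (bracket_monSub (AddSubgroup.subset_closure hu) ihv)
      (bracket_monSub ihu (AddSubgroup.subset_closure hv))

/-- The key step: brackets landing in degree `k` avoid it, up to brackets with the zero component. -/
theorem bracket_mem_sup [NeZero n] (hA : IsMulFam A) {k : ℕ} (hk : k < n) {s : ZMod n} {u : L}
    (hu : Mon A k s u) :
    ∀ {b : ZMod n} {z : L}, z ∈ A b → (s + b).val = k →
      ⁅u, z⁆ ∈ monSub A (k + 1) (s + b) ⊔ mulPow (A (k : ZMod n)) (A 0 : Set L) 1 := by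
  induction hu with
  | @base i x hik hx =>
    intro b z hz he
    rcases eq_or_lt_of_le hik with h | h
    · have hb : b = 0 := by
        have h1 : i + b = i := ZMod.val_injective n (he.trans h)
        exact add_eq_left.1 h1
      subst hb
      have hi : i = (k : ZMod n) := by rw [h, ZMod.natCast_zmod_val]
      refine AddSubgroup.mem_sup_right (mem_mulPow_succ ?_ hz)
      show x ∈ A (k : ZMod n)
      rw [← hi]
      exact hx
    · refine AddSubgroup.mem_sup_left (AddSubgroup.subset_closure (Mon.mul (Mon.base h hx) (Mon.base ?_ hz)))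
      have h1 := ZMod.val_add i b
      have h2 := ZMod.val_lt i
      have h3 := ZMod.val_lt b
      rw [he] at h1
      by_contra hb
      rcases Nat.lt_or_ge (i.val + b.val) n with h4 | h4
      · rw [Nat.mod_eq_of_lt h4] at h1; omega
      · rw [Nat.mod_eq_sub_mod h4, Nat.mod_eq_of_lt (by omega)] at h1; omega
  | @mul i j x y hx hy ihx ihy =>
    intro b z hz he
    have e : ⁅⁅x, y⁆, z⁆ = ⁅x, ⁅y, z⁆⁆ - ⁅y, ⁅x, z⁆⁆ := by rw [leibniz_lie x y z]; abel
    rw [e]
    refine sub_mem ?_ ?_
    · have := ihx (hA (fam_mon_mem hA hy) hz) (by rw [← add_assoc]; exact he)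
      rwa [← add_assoc] at this
    · have h' : j + (i + b) = i + j + b := by abel
      have := ihy (hA (fam_mon_mem hA hx) hz) (by rw [h']; exact he)
      rwa [h'] at this

/-- With the zero component nilpotent of class `m`, deep derived terms avoid small non-zero degrees. -/
theorem derSub_le_monSub_of_kills [NeZero n] (m : ℕ) :
    ∀ k, k < n → ∀ {A : ZMod n → AddSubgroup L}, IsMulFam A → mulPow (⊤ : AddSubgroup L) (A 0 : Set L) m = ⊥ →
      ∀ i : ZMod n, i ≠ 0 → derSub A (kLen m k) i ≤ monSub A (k + 1) i := by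
  intro k
  induction k with
  | zero =>
    intro _ A _ _ i hi
    rw [kLen, derSub_zero]
    intro x hx
    refine AddSubgroup.subset_closure (Mon.base ?_ hx)
    rcases Nat.eq_zero_or_pos i.val with h | h
    · exact absurd ((ZMod.val_eq_zero i).1 h) hi
    · exact h
  | succ k ih =>
    intro hk A hA hm i hi
    set t := kLen m k with ht
    set q : ZMod n := ((k + 1 : ℕ) : ZMod n) with hq
    have hkn : k < n := by omega
    have hqv : q.val = k + 1 := ZMod.val_cast_of_lt hk
    have hq0 : q ≠ 0 := by
      intro h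
      rw [h, ZMod.val_zero] at hqv
      omega
    have hstep : ∀ {B : ZMod n → AddSubgroup L}, IsMulFam B → mulPow (⊤ : AddSubgroup L) (B 0 : Set L) m = ⊥ →
        derSub B (t + 1) q ≤ monSub B (k + 1 + 1) q ⊔ mulPow (B q) (B 0 : Set L) 1 := by
      intro B hB hBm
      rw [derSub, AddSubgroup.closure_le]
      rintro _ ⟨a, b, u, v, hab, hu, hv, rfl⟩
      have hv' : v ∈ B b := fam_derSub_le hB t b (AddSubgroup.subset_closure hv)
      by_cases ha : a = 0
      · subst ha
        rw [zero_add] at hab
        subst hab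
        rw [← lie_skew]
        exact neg_mem (AddSubgroup.mem_sup_right
          (mem_mulPow_succ hv' (fam_derSub_le hB t 0 (AddSubgroup.subset_closure hu))))
      · have hu' : u ∈ monSub B (k + 1) a := ih hkn hB hBm a ha (AddSubgroup.subset_closure hu)
        refine bracket_mem_of_closure (T := {v}) ?_ hu' (AddSubgroup.subset_closure rfl)
        rintro s hs r (rfl : r = v)
        have h := bracket_mem_sup hB hk hs hv' (by rw [hab]; exact hqv)
        rwa [hab] at h
    have hkill : ∀ j, mulPow (⊤ : AddSubgroup L) (derSub A j 0 : Set L) m = ⊥ := fun j =>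
      eq_bot_iff.2 ((mulPow_mono le_rfl (fam_derSub_le hA j 0) m).trans hm.le)
    have hiter : ∀ j, derSub A (j * (t + 1)) q ≤ monSub A (k + 1 + 1) q ⊔ mulPow (A q) (A 0 : Set L) j := by
      intro j
      induction j with
      | zero => rw [Nat.zero_mul, derSub_zero]; exact le_sup_right
      | succ j ihj =>
        rw [Nat.succ_mul]
        refine (derSub_add_le _ _ q).trans ((hstep (fam_derSub hA _) (hkill _)).trans (sup_le ?_ ?_))
        · exact (monSub_mono (fun s => fam_derSub_le hA _ s) _ q).trans le_sup_left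
        · refine (AddSubgroup.closure_le _).2 ?_
          rintro _ ⟨y, hy, z, hz, rfl⟩
          have hz' : z ∈ A 0 := fam_derSub_le hA _ 0 hz
          obtain ⟨y₁, hy₁, y₂, hy₂, rfl⟩ := AddSubgroup.mem_sup.1 (ihj hy)
          rw [add_lie]
          exact add_mem (AddSubgroup.mem_sup_left (monSub_bracket_zero hA hy₁ hz'))
            (AddSubgroup.mem_sup_right (mem_mulPow_succ hy₂ hz'))
    have hq' : derSub A (m * (t + 1)) q ≤ monSub A (k + 1 + 1) q :=
      (hiter m).trans (sup_le le_rfl (((mulPow_mono le_top subset_rfl m).trans hm.le).trans bot_le))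
    show derSub A (m * (t + 1) + t) i ≤ monSub A (k + 1 + 1) i
    intro x hx
    have h3 : x ∈ monSub (derSub A (m * (t + 1))) (k + 1) i :=
      ih hkn (fam_derSub hA _) (hkill _) i hi (derSub_add_le _ _ i hx)
    refine (AddSubgroup.closure_le _).2 ?_ h3
    intro y hy
    clear h3 hx hi
    simp only [Set.mem_ofPred_eq] at hy
    induction hy with
    | @base j z hjk hz =>
      rcases eq_or_lt_of_le hjk with h | h
      · have hj : j = q := by rw [hq, h, ZMod.natCast_zmod_val]
        subst hj
        exact hq' hz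
      · exact AddSubgroup.subset_closure (Mon.base h (fam_derSub_le hA _ j hz))
    | mul _ _ hu hv => exact bracket_monSub hu hv

/-- Kreknin's theorem with a nilpotent zero component. -/
theorem derSub_eq_bot_of_kills [NeZero n] {m : ℕ} (hA : IsMulFam A)
    (hm : mulPow (⊤ : AddSubgroup L) (A 0 : Set L) m = ⊥) (i : ZMod n) :
    derSub A (kLen m (n - 1) + m) i = ⊥ := by
  set t := kLen m (n - 1)
  have hn : n - 1 + 1 = n := Nat.sub_add_cancel (Nat.one_le_iff_ne_zero.2 (NeZero.ne n))
  have hnz : ∀ j : ZMod n, j ≠ 0 → derSub A t j = ⊥ := fun j hj => by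
    have h := derSub_le_monSub_of_kills m (n - 1) (Nat.sub_lt (Nat.pos_of_ne_zero (NeZero.ne n)) one_pos) hA hm j hj
    rw [hn, monSub_eq_bot] at h
    exact le_bot_iff.1 h
  set B := derSub A t
  have hB : IsMulFam B := fam_derSub hA t
  have hdeg : ∀ e (j : ZMod n), derSub B e j ≤ if j = 0 then mulPow (⊤ : AddSubgroup L) (B 0 : Set L) e else ⊥ := by
    intro e
    induction e with
    | zero =>
      intro j
      rw [derSub_zero]
      split_ifs with h
      · exact le_top
      · exact (hnz j h).le
    | succ e ihe =>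
      intro j
      by_cases hj : j = 0
      · subst hj
        rw [if_pos rfl, derSub, AddSubgroup.closure_le]
        rintro _ ⟨a, b, u, v, hab, hu, hv, rfl⟩
        have hu' := ihe a (AddSubgroup.subset_closure hu)
        by_cases ha : a = 0
        · subst ha
          rw [if_pos rfl] at hu'
          rw [zero_add] at hab
          subst hab
          exact mem_mulPow_succ hu' (fam_derSub_le hB e _ (AddSubgroup.subset_closure hv))
        · rw [if_neg ha, AddSubgroup.mem_bot] at hu'
          rw [hu', zero_lie]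
          exact zero_mem _
      · rw [if_neg hj]
        exact (fam_derSub_succ_le hB e j).trans ((ihe j).trans (by rw [if_neg hj]))
  refine le_bot_iff.1 ((derSub_add_le t m i).trans ((hdeg m i).trans ?_))
  split_ifs
  · exact (mulPow_mono le_rfl (fam_derSub_le hA t 0) m).trans hm.le
  · exact le_rfl

end Cfsg.Lib.ElemActClass
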