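import Cfsg.Agent.Lib.ElemActClass.Ring

/-!
The class bound for a coprime elementary abelian group of automorphisms.
-/

set_option autoImplicit false
set_option linter.unusedSectionVars false
set_option linter.style.haveILetI false

namespace Cfsg.Lib.ElemActClass

open Subgroup SemidirectProduct

universe u

/-- The bound for automorphisms, from the bound inside the semidirect product. -/
theorem lowerCentralSeries_eq_bot_of_mulAut {G : Type u} [Group G] [Finite G] {p k n c : ℕ} {b : Bool} (hp : p.Prime)
    (hk : eIdx b n + 2 ≤ k) (hG : (Nat.card G).Coprime p) (A : Subgroup (MulAut G))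
    (hA : Cfsg.IsElementaryAbelian p A) (hcard : Nat.card A = p ^ k)
    (hC : ∀ a ∈ A, a ≠ 1 →
      (term b (⊤ : Subgroup ((a : MulAut G).toMonoidHom.eqLocus (MonoidHom.id G))) n).lowerCentralSeries c = ⊥) :
    (term b (⊤ : Subgroup G) n).lowerCentralSeries (classBound p k c n) = ⊥ := by
  haveI := hA.1
  haveI : Finite (G ⋊[A.subtype] A) := Finite.of_equiv _ SemidirectProduct.equivProd.symm
  set ι : G →* G ⋊[A.subtype] A := inl with hι
  set κ : A →* G ⋊[A.subtype] A := inr with hκ
  have hS : Setup p k b n c ι.range κ.range := by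
    refine ⟨⟨⟨⟨?_⟩⟩, ?_⟩, ?_, ?_, ?_, hk, ?_⟩
    · rintro ⟨_, x, rfl⟩ ⟨_, y, rfl⟩
      exact Subtype.ext (show κ x * κ y = κ y * κ x by rw [← map_mul, ← map_mul, mul_comm' x y])
    · rintro _ ⟨x, rfl⟩
      rw [← map_pow, show x ^ p = 1 from Subtype.ext (hA.2 x x.2), map_one]
    · rw [← hcard]
      exact (Nat.card_congr (MonoidHom.ofInjective inr_injective).toEquiv).symm
    · rw [hι, range_inl_eq_ker_rightHom]
      infer_instance
    · rwa [← Nat.card_congr (MonoidHom.ofInjective (inl_injective (φ := A.subtype))).toEquiv]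
    · rintro _ ⟨a, rfl⟩ ha1
      have hne : (a : MulAut G) ≠ 1 := fun h => ha1 (by rw [show a = 1 from Subtype.ext h, map_one])
      have hloc : ((a : MulAut G).toMonoidHom.eqLocus (MonoidHom.id G)).map ι =
          ι.range ⊓ centralizer ({κ a} : Set (G ⋊[A.subtype] A)) := by
        have key : ∀ g : G, ι g ∈ centralizer ({κ a} : Set (G ⋊[A.subtype] A)) ↔ (a : MulAut G) g = g := fun g => by
          rw [mem_centralizer_singleton_iff]
          have h := inl_aut (φ := A.subtype) a g
          constructor
          · intro hc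
            refine inl_injective (φ := A.subtype) (h.trans ?_)
            show κ a * ι g * κ a⁻¹ = ι g
            rw [← hc, map_inv, mul_inv_cancel_right]
          · intro hg
            have h' : ι g = κ a * ι g * κ a⁻¹ := by
              conv_lhs => rw [← hg]
              exact h
            rw [map_inv, eq_mul_inv_iff_mul_eq] at h'
            exact h'
        refine le_antisymm ?_ ?_
        · rintro _ ⟨g, hg, rfl⟩
          exact ⟨⟨g, rfl⟩, (key g).2 hg⟩
        · rintro _ ⟨⟨g, rfl⟩, hg⟩
          exact ⟨g, (key g).1 hg, rfl⟩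
      have h := hC a a.2 hne
      have hE := congrArg (Subgroup.map (ι.comp ((a : MulAut G).toMonoidHom.eqLocus (MonoidHom.id G)).subtype)) h
      rw [Subgroup.map_bot, Subgroup.map_lowerCentralSeries, map_term, ← MonoidHom.range_eq_map, MonoidHom.range_comp,
        Subgroup.range_subtype, hloc] at hE
      exact hE
  have h := lowerCentralSeries_term_eq_bot hp hS
  rw [MonoidHom.range_eq_map ι, ← map_term, ← Subgroup.map_lowerCentralSeries,
    Subgroup.map_eq_bot_iff_of_injective _ inl_injective] at h
  exact h

end Cfsg.Lib.ElemActClass
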