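import Cfsg.Agent.Lib.ElemActClass.Special
import Cfsg.Agent.Lib.PGroup.Elements
import Cfsg.Agent.Lib.Block.PPart

/-!
Nilpotency of the term generated by the special subgroups, by induction over a minimal invariant abelian section.
-/

set_option autoImplicit false
set_option linter.unusedSectionVars false
set_option linter.style.haveILetI false
set_option maxHeartbeats 400000

namespace Cfsg.Lib.ElemActClass

open Subgroup
open scoped commutatorElement

universe u

/-- A group nilpotent modulo an abelian normal `r`-subgroup `V` is nilpotent once it is generated by elements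
that have `r`-power order or centralize `V`. -/
theorem isNilpotent_of_generated {M : Type u} [Group M] [Finite M] {r : ℕ} [Fact r.Prime] (V : Subgroup M)
    [V.Normal] (hVr : IsPGroup r V) (hVC : V ≤ centralizer (V : Set M)) {m : ℕ}
    (hm : (⊤ : Subgroup M).lowerCentralSeries m ≤ V) {s : Set M} (hs : closure s = ⊤)
    (hs' : ∀ x ∈ s, (∃ j, orderOf x = r ^ j) ∨ x ∈ centralizer (V : Set M)) : Group.IsNilpotent M := by
  set C := centralizer (V : Set M) with hC
  haveI : C.Normal := by rw [hC]; infer_instance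
  set f := QuotientGroup.mk' C with hf
  have hQ : Group.IsNilpotent (M ⧸ C) := by
    refine Subgroup.nilpotent_iff_lowerCentralSeries.2 ⟨m, ?_⟩
    rw [← Subgroup.map_top_of_surjective f (QuotientGroup.mk'_surjective C), ← Subgroup.map_lowerCentralSeries,
      Subgroup.map_eq_bot_iff, hf, QuotientGroup.ker_mk']
    exact hm.trans hVC
  -- the quotient by the centralizer is an `r`-group
  obtain ⟨S⟩ : Nonempty (Sylow r (M ⧸ C)) := inferInstance
  haveI : (S : Subgroup (M ⧸ C)).Normal :=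
    Sylow.normal_of_normalizerCondition (Group.normalizerCondition_of_isNilpotent (G := M ⧸ C)) S
  have hStop : (S : Subgroup (M ⧸ C)) = ⊤ := by
    rw [eq_top_iff, ← Subgroup.map_top_of_surjective f (QuotientGroup.mk'_surjective C), ← hs,
      MonoidHom.map_closure, closure_le]
    rintro _ ⟨x, hx, rfl⟩
    rcases hs' x hx with ⟨j, hj⟩ | hxC
    · have h1 : orderOf ((f x : M ⧸ C) : (M ⧸ C) ⧸ (S : Subgroup (M ⧸ C))) ∣ r ^ j := by
        rw [← hj]
        exact (orderOf_map_dvd (QuotientGroup.mk' (S : Subgroup (M ⧸ C))) (f x)).trans (orderOf_map_dvd f x)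
      have h2 : orderOf ((f x : M ⧸ C) : (M ⧸ C) ⧸ (S : Subgroup (M ⧸ C))) ∣ (S : Subgroup (M ⧸ C)).index := by
        rw [Subgroup.index_eq_card]
        exact orderOf_dvd_natCard _
      have h3 : (r ^ j).Coprime (S : Subgroup (M ⧸ C)).index :=
        Nat.Coprime.pow_left j ((Fact.out : r.Prime).coprime_iff_not_dvd.2 S.not_dvd_index)
      exact (QuotientGroup.eq_one_iff _).1 (orderOf_eq_one_iff.1 (Nat.eq_one_of_dvd_coprimes h3 h1 h2))
    · have h1 : f x = 1 := (QuotientGroup.eq_one_iff x).2 hxC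
      rw [h1]
      exact one_mem _
  -- a Sylow subgroup containing `V` supplements the centralizer
  obtain ⟨P, hVP⟩ := hVr.exists_le_sylow
  have hPC : (P : Subgroup M) ⊔ C = ⊤ := by
    have h1 : ((P : Subgroup M) ⊔ C).index ∣ (P : Subgroup M).index := Subgroup.index_dvd_of_le le_sup_left
    obtain ⟨e, he⟩ := IsPGroup.iff_card.1 (show IsPGroup r (M ⧸ C) from
      (hStop ▸ S.2 : IsPGroup r (⊤ : Subgroup (M ⧸ C))).of_equiv Subgroup.topEquiv)
    have h2 : ((P : Subgroup M) ⊔ C).index ∣ r ^ e := by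
      rw [← he, ← Subgroup.index_eq_card]
      exact Subgroup.index_dvd_of_le le_sup_right
    exact Subgroup.index_eq_one.1 (Nat.eq_one_of_dvd_coprimes
      (Nat.Coprime.pow_left e ((Fact.out : r.Prime).coprime_iff_not_dvd.2 P.not_dvd_index)) h2 h1)
  have hdown : ∀ i, (⊤ : Subgroup M).lowerCentralSeries (m + i) ≤ (P : Subgroup M).lowerCentralSeries i ⊓ V := by
    intro i
    induction i with
    | zero => exact le_inf (hm.trans hVP) hm
    | succ i ih =>
      show ⁅(⊤ : Subgroup M).lowerCentralSeries (m + i), ⊤⁆ ≤ _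
      refine le_inf (commutator_le.2 fun w hw g _ => ?_)
        ((commutator_mono (ih.trans inf_le_right) le_rfl).trans (commutator_le_left V ⊤))
      obtain ⟨y, hy, z, hz, rfl⟩ := Coprime.exists_mul_of_mem_sup
        (le_normalizer_of_normal (H := C) : (P : Subgroup M) ≤ normalizer (C : Set M)) (show g ∈ C ⊔ (P : Subgroup M) by
          rw [sup_comm, hPC]; exact mem_top g)
      have hwC : w⁻¹ * y * w = y := by
        have h1 := mem_centralizer_iff.1 hy w (ih hw).2
        rw [mul_assoc, ← h1, inv_mul_cancel_left]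
      have e : ⁅w, y * z⁆ = y * ⁅w, z⁆ * y⁻¹ := by
        have h1 : w * y = y * w := mem_centralizer_iff.1 hy w (ih hw).2
        calc ⁅w, y * z⁆ = (w * y) * z * w⁻¹ * z⁻¹ * y⁻¹ := by simp [commutatorElement_def, mul_assoc]
          _ = _ := by rw [h1]; simp [commutatorElement_def, mul_assoc]
      have hwz : ⁅w, z⁆ ∈ (P : Subgroup M).lowerCentralSeries (i + 1) ⊓ V :=
        ⟨commutator_mem_commutator (ih hw).1 hz, commutator_le_left V ⊤ (commutator_mem_commutator (ih hw).2 (mem_top z))⟩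
      have h2 : y * ⁅w, z⁆ * y⁻¹ = ⁅w, z⁆ := by
        rw [← mem_centralizer_iff.1 hy _ hwz.2, mul_inv_cancel_right]
      rw [e, h2]
      exact hwz.1
  obtain ⟨n₀, hn₀⟩ := (Subgroup.isNilpotent_iff_lowerCentralSeries (P : Subgroup M)).1 P.2.isNilpotent
  exact Subgroup.nilpotent_iff_lowerCentralSeries.2 ⟨m + n₀,
    le_bot_iff.1 ((hdown n₀).trans (inf_le_left.trans hn₀.le))⟩

/-- A nontrivial solvable normal subgroup contains a nontrivial abelian normal subgroup of prime exponent. -/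
theorem exists_minimal_layer {X : Type u} [Group X] [Finite X] {G : Subgroup X} [G.Normal]
    (hsol : Group.IsSolvable G) (hG : G ≠ ⊥) : ∃ (r : ℕ) (V : Subgroup X), r.Prime ∧ V.Normal ∧ V ≤ G ∧ V ≠ ⊥ ∧
      (∀ v ∈ V, ∀ w ∈ V, v * w = w * v) ∧ ∀ v ∈ V, v ^ r = 1 := by
  classical
  have hex := exists_term_eq_bot hsol
  obtain ⟨j, hj⟩ : ∃ j, Nat.find hex = j + 1 := Nat.exists_eq_succ_of_ne_zero fun h => hG (by
    have := Nat.find_spec hex
    rwa [h] at this)
  set W := term true G j with hW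
  have hW1 : W ≠ ⊥ := Nat.find_min hex (hj ▸ Nat.lt_succ_self j)
  have hWW : ⁅W, W⁆ = ⊥ := by
    have := Nat.find_spec hex
    rwa [hj] at this
  haveI hWn : W.Normal := term_normal true G j
  have hc : ∀ v ∈ W, ∀ w ∈ W, v * w = w * v := fun v hv w hw =>
    commutatorElement_eq_one_iff_mul_comm.1 (mem_bot.1 (hWW ▸ commutator_mem_commutator hv hw))
  obtain ⟨r, hr, hrW⟩ := Nat.exists_prime_and_dvd (fun h => hW1 (Subgroup.card_eq_one.1 h) : Nat.card W ≠ 1)
  let V : Subgroup X :=
    { carrier := {v | v ∈ W ∧ v ^ r = 1}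
      one_mem' := ⟨one_mem W, one_pow r⟩
      mul_mem' := fun {v w} hv hw => ⟨mul_mem hv.1 hw.1, by
        rw [(show Commute v w from hc v hv.1 w hw.1).mul_pow, hv.2, hw.2, one_mul]⟩
      inv_mem' := fun {v} hv => ⟨inv_mem hv.1, by rw [inv_pow, hv.2, inv_one]⟩ }
  refine ⟨r, V, hr, ⟨fun v hv g => ⟨hWn.conj_mem v hv.1 g, by rw [conj_pow, hv.2, mul_one, mul_inv_cancel]⟩⟩,
    fun v hv => term_le true G j hv.1, fun h => ?_, fun v hv w hw => hc v hv.1 w hw.1, fun v hv => hv.2⟩
  haveI := Fact.mk hr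
  obtain ⟨w, hw⟩ := exists_prime_orderOf_dvd_card' r hrW
  have hwV : (w : X) ∈ V := ⟨w.2, by rw [← hw, Subgroup.orderOf_coe w |>.symm, pow_orderOf_eq_one]⟩
  rw [h, mem_bot] at hwV
  rw [show w = 1 from Subtype.ext hwV, orderOf_one] at hw
  exact hr.ne_one hw.symm

/-- The term is nilpotent. -/
theorem term_isNilpotent {p k n c : ℕ} {b : Bool} [hp : Fact p.Prime] : ∀ (N : ℕ) {X : Type u} [Group X] [Finite X]
    {G A : Subgroup X}, Nat.card X = N → Setup p k b n c G A → Group.IsNilpotent (term b G n) := by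
  intro N
  induction N using Nat.strong_induction_on with
  | _ N ih =>
  intro X _ _ G A hN hS
  haveI := hS.normal
  haveI := hS.comm
  by_cases hG : G = ⊥
  · refine (isNilpotent_iff_lowerCentralSeries _).2 ⟨0, ?_⟩
    exact le_bot_iff.1 ((term_le b G n).trans hG.le)
  obtain ⟨r, V, hr, hVn, hVG, hV1, hVc, hVr⟩ := exists_minimal_layer hS.isSolvable hG
  haveI := hVn
  haveI := Fact.mk hr
  set f := QuotientGroup.mk' V with hf
  -- the induced action on the quotient
  have hinj : ∀ a ∈ A, f a = 1 → a = 1 := fun a ha h => by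
    have hav : a ∈ V := (QuotientGroup.eq_one_iff a).1 h
    exact Subgroup.disjoint_def.1 (Coprime.disjoint_of_coprime_card (hS.coprime_of_le hVG)) ha hav
  have hS' : Setup p k b n c (G.map f) (A.map f) := by
    refine ⟨⟨⟨⟨?_⟩⟩, ?_⟩, ?_, hS.normal.map f (QuotientGroup.mk'_surjective V),
      hS.cop.coprime_dvd_left (Subgroup.card_map_dvd (H := G) f), hS.hk, ?_⟩
    · rintro ⟨_, x, hx, rfl⟩ ⟨_, y, hy, rfl⟩
      exact Subtype.ext (show f x * f y = f y * f x by rw [← map_mul, ← map_mul, setLike_mul_comm hx hy])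
    · rintro _ ⟨x, hx, rfl⟩
      rw [← map_pow, hS.exp x hx, map_one]
    · rw [← hS.card]
      refine (Nat.card_congr (Equiv.ofBijective (f.subgroupMap A) ⟨?_, f.subgroupMap_surjective A⟩)).symm
      refine (injective_iff_map_eq_one _).2 fun a ha => Subtype.ext (hinj a a.2 ?_)
      exact congrArg Subtype.val ha
    · rintro _ ⟨a, ha, rfl⟩ ha1
      have hane : a ≠ 1 := fun h => ha1 (by rw [h, map_one])
      have hz : zpowers a ≤ normalizer (G : Set X) := le_normalizer_of_normal
      have h := Coprime.map_inf_centralizer_eq f hz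
        ((hS.coprime_of_le le_rfl).coprime_dvd_left (card_dvd_of_le (zpowers_le.2 ha))) (Or.inr hS.isSolvable)
      rw [Local.FreeAction.centralizer_zpowers_eq, MonoidHom.map_zpowers, Local.FreeAction.centralizer_zpowers_eq] at h
      rw [← h, ← map_term, ← Subgroup.map_lowerCentralSeries, hS.hC a ha hane, Subgroup.map_bot]
  have hlt : Nat.card (X ⧸ V) < N := by
    rw [← hN, ← Subgroup.index_eq_card, ← V.card_mul_index]
    exact lt_mul_of_one_lt_left (Nat.pos_of_ne_zero Subgroup.index_ne_zero_of_finite)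
      (Finite.one_lt_card_iff_nontrivial.2 ((Subgroup.nontrivial_iff_ne_bot V).2 hV1))
  obtain ⟨m, hm⟩ := (isNilpotent_iff_lowerCentralSeries _).1 (ih _ hlt rfl hS')
  rw [← map_term, ← Subgroup.map_lowerCentralSeries, Subgroup.map_eq_bot_iff, hf, QuotientGroup.ker_mk'] at hm
  set T := term b G n with hT
  haveI : T.Normal := term_normal b G n
  -- elements of order prime to `r` of special subgroups centralize `V`
  have hcent : ∀ q ∈ Sp b G A n, ∀ x ∈ q.1, ¬ r ∣ orderOf x → x ∈ centralizer (V : Set X) := by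
    intro q hq x hx hxr
    refine le_centralizer_iff.1 ?_ (mem_zpowers x)
    refine (hS.le_iSup_centralizer hVG le_normalizer_of_normal).trans (iSup₂_le fun B hB v hv => ?_)
    refine mem_centralizer_iff.2 fun y hy => ?_
    obtain ⟨a, ha, ha1, haB, -, hle⟩ := hS.exists_common hq hB
    set H := G ⊓ centralizer ({a} : Set X) with hH
    set Φ := term b H n with hΦ
    have hvH : v ∈ H := ⟨hVG hv.1, centralizer_le (Set.singleton_subset_iff.2 haB) hv.2⟩
    haveI hΦnil : Group.IsNilpotent Φ := (isNilpotent_iff_lowerCentralSeries _).2 ⟨c, hS.hC a ha ha1⟩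
    have hxΦ : x ∈ Φ := hle hx
    set w := ⁅v, x⁆ with hw
    have hwV : w ∈ V := commutator_le_left V ⊤ (commutator_mem_commutator hv.1 (mem_top x))
    have hvN : v ∈ normalizer (Φ : Set X) := by
      rw [mem_normalizer_iff_map_conj_eq, hΦ, map_term]
      congr 1
      exact mem_normalizer_iff_map_conj_eq.1 (Subgroup.le_normalizer hvH)
    have hwΦ : w ∈ Φ := by
      rw [hw, commutatorElement_def]
      exact mul_mem ((mem_normalizer_iff.1 hvN x).1 hxΦ) (inv_mem hxΦ)
    have hcw : Commute w x := by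
      have h := Cfsg.Lib.PGroup.commute_of_coprime_orderOf (⟨w, hwΦ⟩ : Φ) ⟨x, hxΦ⟩ (by
        rw [Subgroup.orderOf_mk, Subgroup.orderOf_mk]
        exact Nat.Coprime.coprime_dvd_left (orderOf_dvd_of_pow_eq_one (hVr w hwV)) (hr.coprime_iff_not_dvd.2 hxr))
      exact congrArg Subtype.val h
    have e : v * x * v⁻¹ = w * x := by simp [hw, commutatorElement_def]
    have h1 : (w * x) ^ orderOf x = 1 := by rw [← e, conj_pow, pow_orderOf_eq_one, mul_one, mul_inv_cancel]
    rw [hcw.mul_pow, pow_orderOf_eq_one, mul_one] at h1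
    have hw1 : w = 1 := orderOf_eq_one_iff.1 (Nat.eq_one_of_dvd_coprimes (hr.coprime_iff_not_dvd.2 hxr)
      (orderOf_dvd_of_pow_eq_one (hVr w hwV)) (orderOf_dvd_of_pow_eq_one h1))
    rw [hw, commutatorElement_eq_one_iff_mul_comm] at hw1
    obtain ⟨i, rfl⟩ := mem_zpowers_iff.1 hy
    exact ((show Commute v x from hw1).zpow_right i).symm.eq
  -- assemble inside the term
  have hV0 : ∀ v : T, v ∈ V.subgroupOf T ↔ (v : X) ∈ V := fun v => Iff.rfl
  refine isNilpotent_of_generated (M := T) (r := r) (V.subgroupOf T) ?_ ?_ (m := m)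
    (s := {x : T | ∃ q ∈ Sp b G A n, (x : X) ∈ q.1 ∧ ((∃ j, orderOf x = r ^ j) ∨ ¬ r ∣ orderOf x)}) ?_ ?_ ?_
  · exact fun v => ⟨1, Subtype.ext (Subtype.ext (by simpa using hVr _ v.2))⟩
  · exact fun v hv => mem_centralizer_iff.2 fun w hw => Subtype.ext (hVc _ hw _ hv)
  · intro x hx
    refine (hV0 x).2 (hm ?_)
    rw [← Subgroup.top_subtype_lowerCentralSeries]
    exact ⟨x, hx, rfl⟩
  · refine eq_top_iff.2 fun x _ => ?_
    set s := {x : T | ∃ q ∈ Sp b G A n, (x : X) ∈ q.1 ∧ ((∃ j, orderOf x = r ^ j) ∨ ¬ r ∣ orderOf x)}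
    have hgen : T ≤ (closure s).map T.subtype := by
      refine (hS.term_eq_sSup n).le.trans (sSup_le ?_)
      rintro _ ⟨q, hq, rfl⟩ y hy
      have hyT : y ∈ T := (hS.term_eq_sSup n).ge ((le_sSup ⟨q, hq, rfl⟩ : q.1 ≤ sSup (Prod.fst '' Sp b G A n)) hy)
      obtain ⟨u, v, huv, -, hu, hv, hu', hv'⟩ := Block.exists_pPart_pair r (⟨y, hyT⟩ : T)
      have hmem : ∀ z : T, z ∈ zpowers (⟨y, hyT⟩ : T) → (z : X) ∈ q.1 := by
        intro z hz
        obtain ⟨i, rfl⟩ := mem_zpowers_iff.1 hz
        rw [SubgroupClass.coe_zpow]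
        exact zpow_mem hy i
      exact ⟨⟨y, hyT⟩, huv ▸ mul_mem (subset_closure ⟨q, hq, hmem u hu', Or.inl hu⟩)
        (subset_closure ⟨q, hq, hmem v hv', Or.inr hv⟩), rfl⟩
    obtain ⟨z, hz, hzx⟩ := hgen x.2
    exact (Subtype.ext hzx : z = x) ▸ hz
  · rintro x ⟨q, hq, hxq, hj | hj⟩
    · exact Or.inl hj
    · refine Or.inr (mem_centralizer_iff.2 fun v hv => Subtype.ext ?_)
      exact mem_centralizer_iff.1 (hcent q hq x hxq (by rwa [Subgroup.orderOf_coe])) v hv

end Cfsg.Lib.ElemActClass
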