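import Cfsg.Agent.Lib.ElemActClass.Eigen
import Cfsg.Agent.Lib.ElemActClass.Nilpotent

/-!
The Lie ring of the term generated by the special subgroups: it is spanned by few nilpotently acting pieces,
which bounds the class of the term.
-/

set_option autoImplicit false
set_option linter.unusedSectionVars false
set_option linter.style.haveILetI false
set_option maxHeartbeats 400000

namespace Cfsg.Lib.ElemActClass

open Subgroup Cfsg.Lib.Lie
open scoped commutatorElement

universe u

variable {X : Type u} [Group X] {T : Subgroup X} {e : ℕ}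

theorem mem_lcs_iff {i : ℕ} {x : T} : x ∈ lcs T i ↔ (x : X) ∈ T.lowerCentralSeries i := by
  rw [← Subgroup.top_subtype_lowerCentralSeries]
  exact (Subgroup.mem_map_iff_mem T.subtype_injective).symm

open Classical in
/-- The homogeneous element attached to a member of the ambient group. -/
noncomputable def clX (T : Subgroup X) (e i : ℕ) (x : X) : LCRing T e :=
  if h : x ∈ T then cl e i ⟨x, h⟩ else 0

theorem clX_coe (i : ℕ) (x : T) : clX T e i (x : X) = cl e i x := by
  rw [clX, dif_pos x.2]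

theorem exists_coe {i : ℕ} {x : X} (hx : x ∈ T.lowerCentralSeries i) : ∃ y : T, y ∈ lcs T i ∧ (y : X) = x :=
  ⟨⟨x, T.lowerCentralSeries_le_self i hx⟩, mem_lcs_iff.2 hx, rfl⟩

theorem clX_one (i : ℕ) : clX T e i (1 : X) = 0 := by
  rw [show (1 : X) = ((1 : T) : X) from rfl, clX_coe, cl_one]

theorem clX_mul {i : ℕ} {x y : X} (hx : x ∈ T.lowerCentralSeries i) (hy : y ∈ T.lowerCentralSeries i) :
    clX T e i (x * y) = clX T e i x + clX T e i y := by
  obtain ⟨x, hx', rfl⟩ := exists_coe hx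
  obtain ⟨y, hy', rfl⟩ := exists_coe hy
  rw [← Subgroup.coe_mul, clX_coe, clX_coe, clX_coe, cl_mul i hx' hy']

theorem clX_inv {i : ℕ} {x : X} (hx : x ∈ T.lowerCentralSeries i) : clX T e i x⁻¹ = -clX T e i x := by
  obtain ⟨x, hx', rfl⟩ := exists_coe hx
  rw [← Subgroup.coe_inv, clX_coe, clX_coe, cl_inv i hx']

theorem clX_bracket {i j : ℕ} {x y : X} (hx : x ∈ T.lowerCentralSeries i) (hy : y ∈ T.lowerCentralSeries j) :
    ⁅clX T e i x, clX T e j y⁆ = clX T e (i + j + 1) ⁅x, y⁆ ∧ ⁅x, y⁆ ∈ T.lowerCentralSeries (i + j + 1) := by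
  obtain ⟨x, hx', rfl⟩ := exists_coe hx
  obtain ⟨y, hy', rfl⟩ := exists_coe hy
  have h : ((⁅x, y⁆ : T) : X) = ⁅(x : X), (y : X)⁆ := map_commutatorElement T.subtype x y
  rw [← h, clX_coe, clX_coe, clX_coe, lc_bracket_cl hx' hy']
  exact ⟨rfl, mem_lcs_iff.1 (commutator_mem_lcs hx' hy')⟩

theorem mem_succ_of_clX_eq_zero {i : ℕ} (hi : i < e) {x : X} (hx : x ∈ T.lowerCentralSeries i)
    (h : clX T e i x = 0) : x ∈ T.lowerCentralSeries (i + 1) := by
  obtain ⟨x, hx', rfl⟩ := exists_coe hx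
  rw [clX_coe] at h
  have h1 := congrFun h ⟨i, hi⟩
  rw [cl_apply i hx', dif_pos rfl] at h1
  exact mem_lcs_iff.1 ((gr_eq_zero_iff i hx').1 h1)

theorem clX_eq_zero_of_mem_succ {i : ℕ} {x : X} (hx : x ∈ T.lowerCentralSeries (i + 1)) : clX T e i x = 0 := by
  have hx0 := T.lowerCentralSeries_antitone (Nat.le_succ i) hx
  obtain ⟨x, hx', rfl⟩ := exists_coe hx0
  rw [clX_coe]
  refine LCRing.ext fun k => ?_
  rw [cl_apply i hx']
  by_cases hk : (k : ℕ) = i
  · rw [dif_pos hk]
    refine (gr_eq_zero_iff _ _).2 ?_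
    rw [hk]
    exact mem_lcs_iff.2 hx
  · rw [dif_neg hk]; rfl

theorem clX_of_le {i : ℕ} (hi : e ≤ i) {x : X} (hx : x ∈ T.lowerCentralSeries i) : clX T e i x = 0 := by
  obtain ⟨x, hx', rfl⟩ := exists_coe hx
  rw [clX_coe]
  refine LCRing.ext fun k => ?_
  rw [cl_apply i hx', dif_neg (by have := k.2; omega)]
  rfl

theorem clX_induction {P : LCRing T e → Prop} (h0 : P 0) (hadd : ∀ a b, P a → P b → P (a + b))
    (h : ∀ (i : ℕ) (x : X), x ∈ T.lowerCentralSeries i → P (clX T e i x)) (a : LCRing T e) : P a :=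
  cl_induction h0 hadd (fun i x hx => by rw [← clX_coe]; exact h i x (mem_lcs_iff.1 hx)) a

/-- Preimage of an additive subgroup in degree `i`. -/
noncomputable def pre (i : ℕ) (V : AddSubgroup (LCRing T e)) : Subgroup X where
  carrier := {x | x ∈ T.lowerCentralSeries i ∧ clX T e i x ∈ V}
  one_mem' := ⟨one_mem _, by rw [clX_one]; exact zero_mem _⟩
  mul_mem' := fun {x y} hx hy => ⟨mul_mem hx.1 hy.1, by rw [clX_mul hx.1 hy.1]; exact add_mem hx.2 hy.2⟩
  inv_mem' := fun {x} hx => ⟨inv_mem hx.1, by rw [clX_inv hx.1]; exact neg_mem hx.2⟩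

theorem mem_pre {i : ℕ} {V : AddSubgroup (LCRing T e)} {x : X} :
    x ∈ pre i V ↔ x ∈ T.lowerCentralSeries i ∧ clX T e i x ∈ V := Iff.rfl

section Action

variable [T.Normal]

/-- Conjugation on the Lie ring. -/
noncomputable def act (T : Subgroup X) [T.Normal] (e : ℕ) (g : X) : LCRing T e →+ LCRing T e :=
  lcMap e ((MulAut.conjNormal g : MulAut T) : T →* T)

theorem act_clX (g : X) {i : ℕ} {x : X} (hx : x ∈ T.lowerCentralSeries i) :
    act T e g (clX T e i x) = clX T e i (g * x * g⁻¹) := by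
  obtain ⟨x, hx', rfl⟩ := exists_coe hx
  have h : g * (x : X) * g⁻¹ = ((MulAut.conjNormal g x : T) : X) := (MulAut.conjNormal_apply g x).symm
  rw [h, clX_coe, clX_coe]
  exact lcMap_cl _ hx'

theorem conj_lcs (g : X) {i : ℕ} {x : X} (hx : x ∈ T.lowerCentralSeries i) : g * x * g⁻¹ ∈ T.lowerCentralSeries i := by
  obtain ⟨x, hx', rfl⟩ := exists_coe hx
  rw [show g * (x : X) * g⁻¹ = ((MulAut.conjNormal g x : T) : X) from (MulAut.conjNormal_apply g x).symm]
  exact mem_lcs_iff.1 (map_lcs_le ((MulAut.conjNormal g : MulAut T) : T →* T) i ⟨x, hx', rfl⟩)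

theorem act_mul (g h : X) (a : LCRing T e) : act T e (g * h) a = act T e g (act T e h a) := by
  induction a using clX_induction with
  | h0 => rw [map_zero, map_zero, map_zero]
  | hadd a b ha hb => rw [map_add, map_add, map_add, ha, hb]
  | h i x hx =>
    rw [act_clX h hx, act_clX g (conj_lcs h hx), act_clX (g * h) hx]
    congr 1
    simp [mul_assoc]

theorem act_one (a : LCRing T e) : act T e 1 a = a := by
  induction a using clX_induction with
  | h0 => rw [map_zero]
  | hadd a b ha hb => rw [map_add, ha, hb]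
  | h i x hx => rw [(act_clX 1 hx), one_mul, inv_one, mul_one]

theorem act_lie (g : X) (a b : LCRing T e) : act T e g ⁅a, b⁆ = ⁅act T e g a, act T e g b⁆ := lcMap_lie _ a b

theorem act_iterate (g : X) : ∀ (q : ℕ) (a : LCRing T e), (act T e g)^[q] a = act T e (g ^ q) a := by
  intro q
  induction q with
  | zero => intro a; rw [pow_zero, act_one]; rfl
  | succ q ih => intro a; rw [Function.iterate_succ_apply', ih, pow_succ', act_mul]

theorem le_normalizer_pre {A : Subgroup X} {V : AddSubgroup (LCRing T e)}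
    (hV : ∀ g ∈ A, ∀ v ∈ V, act T e g v ∈ V) (i : ℕ) : A ≤ normalizer ((pre i V : Subgroup X) : Set X) := by
  intro g hg
  refine mem_normalizer_iff.2 fun x => ⟨fun hx => ?_, fun hx => ?_⟩
  · refine ⟨(conj_lcs g hx.1), ?_⟩
    rw [← (act_clX g hx.1)]
    exact hV g hg _ hx.2
  · have e : x = g⁻¹ * (g * x * g⁻¹) * g⁻¹⁻¹ := by simp [mul_assoc]
    rw [e]
    refine ⟨(conj_lcs g⁻¹ hx.1), ?_⟩
    rw [← (act_clX g⁻¹ hx.1)]
    exact hV g⁻¹ (inv_mem hg) _ hx.2

theorem lieDer_stable {A : Subgroup X} {Y : AddSubgroup (LCRing T e)} (hY : ∀ g ∈ A, ∀ v ∈ Y, act T e g v ∈ Y) :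
    ∀ j, ∀ g ∈ A, ∀ v ∈ lieDer Y j, act T e g v ∈ lieDer Y j := by
  intro j
  induction j with
  | zero => exact hY
  | succ j ih =>
    intro g hg v hv
    induction hv using AddSubgroup.closure_induction with
    | zero => rw [map_zero]; exact zero_mem _
    | add x y _ _ hx hy => rw [map_add]; exact add_mem hx hy
    | neg x _ hx => rw [map_neg]; exact neg_mem hx
    | mem z hz =>
      obtain ⟨x, hx, y, hy, rfl⟩ := hz
      rw [act_lie]
      exact bracket_mem_lieDer (ih g hg x hx) (ih g hg y hy)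

end Action

theorem lieDer_anti {L : Type*} [LieRing L] {Y : AddSubgroup L} (hY : ∀ x ∈ Y, ∀ y ∈ Y, ⁅x, y⁆ ∈ Y) :
    ∀ j, lieDer Y (j + 1) ≤ lieDer Y j := by
  intro j
  induction j with
  | zero =>
    refine (AddSubgroup.closure_le _).2 ?_
    rintro _ ⟨x, hx, y, hy, rfl⟩
    exact hY x hx y hy
  | succ j ih =>
    refine (AddSubgroup.closure_le _).2 ?_
    rintro _ ⟨x, hx, y, hy, rfl⟩
    exact bracket_mem_lieDer (ih hx) (ih hy)

/-- The homogeneous elements from special subgroups, restricted to a subgroup. -/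
def SSet (b : Bool) (G A : Subgroup X) (n : ℕ) (T : Subgroup X) (e : ℕ) (W : Subgroup X) : Set (LCRing T e) :=
  {z | ∃ (i : ℕ) (x : X), ∃ q ∈ Sp b G A n, x ∈ q.1 ⊓ W ∧ x ∈ T.lowerCentralSeries i ∧ z = clX T e i x}

namespace Setup

variable [Finite X] {p k n c : ℕ} {b : Bool} {G A : Subgroup X} [hp : Fact p.Prime] (hS : Setup p k b n c G A)
include hS

variable [T.Normal] (hT : T = term b G n)

theorem sset_stable {W : Subgroup X} (hW : A ≤ normalizer (W : Set X)) :
    ∀ g ∈ A, ∀ v ∈ AddSubgroup.closure (SSet b G A n T e W), act T e g v ∈ AddSubgroup.closure (SSet b G A n T e W) := by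
  intro g hg v hv
  induction hv using AddSubgroup.closure_induction with
  | zero => rw [map_zero]; exact zero_mem _
  | add x y _ _ hx hy => rw [map_add]; exact add_mem hx hy
  | neg x _ hx => rw [map_neg]; exact neg_mem hx
  | mem z hz =>
    obtain ⟨i, x, q, hq, hx, hxi, rfl⟩ := hz
    rw [(act_clX g hxi)]
    exact AddSubgroup.subset_closure ⟨i, _, q, hq, ⟨(mem_normalizer_iff.1 ((hS.sp_props hq).2.1 hg) x).1 hx.1,
      (mem_normalizer_iff.1 (hW hg) x).1 hx.2⟩, (conj_lcs g hxi), rfl⟩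

/-- Brackets of the generators decompose inside any stable subgroup containing them. -/
theorem bracket_sset {W : Subgroup X} (hW : A ≤ normalizer (W : Set X)) {V : AddSubgroup (LCRing T e)}
    (hV : ∀ g ∈ A, ∀ v ∈ V, act T e g v ∈ V) {z z' : LCRing T e} (hz : z ∈ SSet b G A n T e W)
    (hz' : z' ∈ SSet b G A n T e W) (hzV : ⁅z, z'⁆ ∈ V) :
    ⁅z, z'⁆ ∈ AddSubgroup.closure (SSet b G A n T e W ∩ (V : Set (LCRing T e))) := by
  obtain ⟨i, x, q₁, hq₁, hx, hxi, rfl⟩ := hz
  obtain ⟨j, y, q, hq, hy, hyj, rfl⟩ := hz'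
  obtain ⟨q₂, hq₂, hle⟩ := hS.sp_cond hq
  obtain ⟨he, hm⟩ := clX_bracket (e := e) hxi hyj
  rw [he] at hzV ⊢
  have a2 : A ≤ normalizer (q₂.1 : Set X) := by cases b <;> exact (hS.sp_props hq₂).2.1
  set U := ⁅q₁.1, q₂.1⁆ ⊓ W ⊓ pre (i + j + 1) V with hU
  have hAU : A ≤ normalizer (U : Set X) :=
    (le_inf ((le_inf (le_normalizer_commutator' (hS.sp_props hq₁).2.1 a2) hW).trans
      Subgroup.inf_normalizer_le_normalizer_inf) (le_normalizer_pre hV _)).trans
      Subgroup.inf_normalizer_le_normalizer_inf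
  have hle' : U ≤ pre (i + j + 1) (AddSubgroup.closure (SSet b G A n T e W ∩ (V : Set (LCRing T e)))) := by
    refine hS.le_of_inv hq₁ hq₂ (inf_le_left.trans inf_le_left) hAU fun r hr u hu => ?_
    obtain ⟨r', hr', hrle⟩ := hS.sp_mono hr
    obtain ⟨⟨⟨-, huW⟩, hui, huV⟩, hur⟩ := hu
    exact ⟨hui, AddSubgroup.subset_closure ⟨⟨_, u, r', hr', ⟨hrle hur, huW⟩, hui, rfl⟩, huV⟩⟩
  have hxW : x ∈ W := hx.2
  have hyW : y ∈ W := hy.2
  exact (hle' ⟨⟨commutator_mem_commutator hx.1 (hle hy.1), by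
    rw [commutatorElement_def]; exact W.mul_mem (W.mul_mem (W.mul_mem hxW hyW) (W.inv_mem hxW)) (W.inv_mem hyW)⟩, hm, hzV⟩).2

theorem bracket_sset_mem {W : Subgroup X} (hW : A ≤ normalizer (W : Set X)) :
    ∀ x ∈ AddSubgroup.closure (SSet b G A n T e W), ∀ y ∈ AddSubgroup.closure (SSet b G A n T e W),
      ⁅x, y⁆ ∈ AddSubgroup.closure (SSet b G A n T e W) := fun x hx y hy =>
  bracket_mem_of_closure (fun s hs t ht => AddSubgroup.closure_mono Set.inter_subset_left
    (hS.bracket_sset (V := ⊤) hW (fun _ _ _ _ => trivial) hs ht trivial)) hx hy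

include hT

theorem sset_span : AddSubgroup.closure (SSet b G A n T e ⊤) = (⊤ : AddSubgroup (LCRing T e)) := by
  haveI := hS.normal
  set V := AddSubgroup.closure (SSet b G A n T e ⊤) with hV
  have key : ∀ i, T.lowerCentralSeries i ≤ pre i V := by
    intro i
    induction i with
    | zero =>
      show T ≤ _
      refine hT.le.trans ((hS.term_eq_sSup n).le.trans (sSup_le ?_))
      rintro _ ⟨q, hq, rfl⟩ x hx
      have hxT : x ∈ T := hT.ge ((hS.term_eq_sSup n).ge
        ((le_sSup ⟨q, hq, rfl⟩ : q.1 ≤ sSup (Prod.fst '' Sp b G A n)) hx))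
      exact ⟨hxT, AddSubgroup.subset_closure ⟨0, x, q, hq, ⟨hx, mem_top x⟩, hxT, rfl⟩⟩
    | succ i ih =>
      show ⁅T.lowerCentralSeries i, T⁆ ≤ _
      refine commutator_le.2 fun x hx y hy => ?_
      obtain ⟨he, hm⟩ := clX_bracket (e := e) hx (show y ∈ T.lowerCentralSeries 0 from hy)
      refine ⟨hm, ?_⟩
      have hy' : y ∈ pre 0 V := by
        refine (?_ : T ≤ pre 0 V) hy
        refine hT.le.trans ((hS.term_eq_sSup n).le.trans (sSup_le ?_))
        rintro _ ⟨q, hq, rfl⟩ x hx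
        have hxT : x ∈ T := hT.ge ((hS.term_eq_sSup n).ge
          ((le_sSup ⟨q, hq, rfl⟩ : q.1 ≤ sSup (Prod.fst '' Sp b G A n)) hx))
        exact ⟨hxT, AddSubgroup.subset_closure ⟨0, x, q, hq, ⟨hx, mem_top x⟩, hxT, rfl⟩⟩
      have h1 := hS.bracket_sset_mem (W := ⊤) (fun g _ => mem_normalizer_iff.2 fun _ => ⟨fun _ => trivial, fun _ => trivial⟩)
        _ (ih hx).2 _ hy'.2
      rw [he] at h1
      exact h1
  refine eq_top_iff.2 fun a _ => ?_
  induction a using clX_induction with
  | h0 => exact zero_mem _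
  | hadd a b ha hb => exact add_mem (ha trivial) (hb trivial)
  | h i x hx => exact (key i hx).2

/-- Pieces of the cover act nilpotently. -/
theorem piece_kills (D : Subgroup X) :
    mulPow (⊤ : AddSubgroup (LCRing T e))
      {z | ∃ (i : ℕ) (x : X), ∃ q ∈ Sp b G A n, q.2 = D ∧ x ∈ q.1 ∧ x ∈ T.lowerCentralSeries i ∧ z = clX T e i x}
      (c + 1) = ⊥ := by
  haveI := hS.normal
  rw [eq_bot_iff]
  refine (mulPow_le_closure _ _ _).trans ((AddSubgroup.closure_le _).2 ?_)
  rintro _ ⟨y, -, l, hl, hlen, rfl⟩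
  obtain ⟨t₀, l', rfl⟩ : ∃ t₀ l', l = t₀ :: l' := by
    cases l with
    | nil => simp at hlen
    | cons a l' => exact ⟨a, l', rfl⟩
  obtain ⟨i₀, x₀, q₀, hq₀, hD₀, hx₀, hxi₀, rfl⟩ := hl t₀ List.mem_cons_self
  show iterL y (clX T e i₀ x₀ :: l') ∈ (⊥ : AddSubgroup (LCRing T e))
  rw [AddSubgroup.mem_bot]
  induction y using clX_induction with
  | h0 => rw [iterL_zero]
  | hadd a b ha hb => rw [iterL_add, ha, hb, add_zero]
  | h j y hy =>
    let K : AddSubgroup (LCRing T e) :=
      (AddMonoidHom.mk' (fun a => iterL a (clX T e i₀ x₀ :: l')) (iterL_add _)).ker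
    suffices h : T.lowerCentralSeries j ≤ pre j K from AddMonoidHom.mem_ker.1 (h hy).2
    haveI : (T.lowerCentralSeries j).Normal := term_false_eq T j ▸ term_normal false T j
    refine (hS.le_iSup_centralizer ((T.lowerCentralSeries_le_self j).trans (hT.le.trans (term_le b G n)))
      le_normalizer_of_normal).trans (iSup₂_le fun B hB u hu => ⟨hu.1, AddMonoidHom.mem_ker.2 ?_⟩)
    show iterL (clX T e j u) (clX T e i₀ x₀ :: l') = 0
    obtain ⟨a, ha, ha1, haB, haD, -⟩ := hS.exists_common hq₀ hB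
    set H := G ⊓ centralizer ({a} : Set X) with hH
    set Φ := term b H n with hΦ
    have hΦle : ∀ q ∈ Sp b G A n, q.2 = D → q.1 ≤ Φ := fun q hq hqD =>
      (hS.sp_props hq).2.2.1.trans (term_mono b (inf_le_inf_left _ (centralizer_le
        (Set.singleton_subset_iff.2 (show a ∈ (q.2 : Subgroup X) by rw [hqD, ← hD₀]; exact haD)))) n)
    have huH : u ∈ H := ⟨hT.le.trans (term_le b G n) (T.lowerCentralSeries_le_self j hu.1),
      centralizer_le (Set.singleton_subset_iff.2 haB) hu.2⟩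
    have hnorm : u ∈ normalizer (Φ : Set X) := by
      rw [mem_normalizer_iff_map_conj_eq, hΦ, map_term]
      congr 1
      exact mem_normalizer_iff_map_conj_eq.1 (Subgroup.le_normalizer huH)
    have claim : ∀ (m : List (LCRing T e)), (∀ t ∈ m, ∃ (i : ℕ) (x : X), x ∈ Φ ∧ x ∈ T.lowerCentralSeries i ∧ t = clX T e i x) →
        ∀ (r i : ℕ) (v : X), v ∈ Φ.lowerCentralSeries r → v ∈ T.lowerCentralSeries i →
          ∃ (i' : ℕ) (v' : X), v' ∈ Φ.lowerCentralSeries (r + m.length) ∧ iterL (clX T e i v) m = clX T e i' v' := by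
      intro m
      induction m with
      | nil => intro _ r i v hv hvi; exact ⟨i, v, hv, rfl⟩
      | cons t m ihm =>
        intro hm r i v hv hvi
        obtain ⟨i₁, x, hxΦ, hxi, rfl⟩ := hm t List.mem_cons_self
        obtain ⟨he, hmem⟩ := clX_bracket (e := e) hvi hxi
        obtain ⟨i', v', hv', heq⟩ := ihm (fun s hs => hm s (List.mem_cons_of_mem _ hs)) (r + 1) _ _
          (show ⁅v, x⁆ ∈ Φ.lowerCentralSeries (r + 1) from commutator_mem_commutator hv hxΦ) hmem
        refine ⟨i', v', ?_, ?_⟩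
        · rw [List.length_cons, show r + (m.length + 1) = r + 1 + m.length by omega]; exact hv'
        · rw [iterL_cons, he, heq]
    obtain ⟨he, hmem⟩ := clX_bracket (e := e) hu.1 hxi₀
    have h0 : ⁅u, x₀⁆ ∈ Φ.lowerCentralSeries 0 := by
      show ⁅u, x₀⁆ ∈ Φ
      rw [commutatorElement_def]
      exact mul_mem ((mem_normalizer_iff.1 hnorm x₀).1 (hΦle q₀ hq₀ hD₀ hx₀)) (inv_mem (hΦle q₀ hq₀ hD₀ hx₀))
    obtain ⟨i', v', hv', heq⟩ := claim l' (fun t ht => by
      obtain ⟨i, x, q, hq, hqD, hx, hxi, rfl⟩ := hl t (List.mem_cons_of_mem _ ht)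
      exact ⟨i, x, hΦle q hq hqD hx, hxi, rfl⟩) 0 _ _ h0 hmem
    have hl' : l'.length = c := by simpa using hlen
    rw [Nat.zero_add, hl', hS.hC a ha ha1, mem_bot] at hv'
    rw [iterL_cons, he, heq, hv', clX_one]

/-- A derived length for the elements from special subgroups bounds how long they can act. -/
theorem sset_kills {W : Subgroup X} (hW : A ≤ normalizer (W : Set X)) {ℓ : ℕ}
    (hℓ : lieDer (AddSubgroup.closure (SSet b G A n T e W)) ℓ = ⊥) :
    mulPow (⊤ : AddSubgroup (LCRing T e)) (SSet b G A n T e W) ((2 ^ (p ^ k) * c + 1) ^ ℓ) = ⊥ := by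
  classical
  set Y := AddSubgroup.closure (SSet b G A n T e W)
  haveI : Fintype {D : Subgroup X // D ≤ A} := Fintype.ofFinite _
  have hcard : Fintype.card {D : Subgroup X // D ≤ A} ≤ 2 ^ (p ^ k) := by
    haveI : Fintype A := Fintype.ofFinite _
    rw [← hS.card, Nat.card_eq_fintype_card, ← Fintype.card_set]
    refine Fintype.card_le_of_injective (fun D => {x : A | (x : X) ∈ D.1}) fun D D' h => Subtype.ext (SetLike.ext fun x => ?_)
    exact ⟨fun hx => (Set.ext_iff.1 h ⟨x, D.2 hx⟩).1 hx, fun hx => (Set.ext_iff.1 h ⟨x, D'.2 hx⟩).2 hx⟩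
  have h := mulPow_eq_bot_of_cover hcard
    (fun D : {D : Subgroup X // D ≤ A} => {z : LCRing T e | ∃ (i : ℕ) (x : X), ∃ q ∈ Sp b G A n,
      q.2 = D.1 ∧ x ∈ q.1 ∧ x ∈ T.lowerCentralSeries i ∧ z = clX T e i x})
    (fun D => hS.piece_kills hT D.1) ℓ (fun j => SSet b G A n T e W ∩ (lieDer Y j : Set (LCRing T e))) ?_ ?_ ?_ ?_
  · refine le_bot_iff.1 ((mulPow_mono le_rfl ?_ _).trans h.le)
    exact fun z hz => ⟨hz, AddSubgroup.subset_closure hz⟩
  · rintro z ⟨⟨i, x, q, hq, hx, hxi, rfl⟩, -⟩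
    exact Set.mem_iUnion.2 ⟨⟨q.2, (hS.sp_props hq).1⟩, i, x, q, hq, rfl, hx.1, hxi, rfl⟩
  · exact fun j z hz => ⟨hz.1, lieDer_anti (hS.bracket_sset_mem hW) j hz.2⟩
  · exact fun j x hx y hy => hS.bracket_sset hW (lieDer_stable (hS.sset_stable hW) (j + 1)) hx.1 hy.1
      (bracket_mem_lieDer hx.2 hy.2)
  · rintro z ⟨-, hz⟩
    rw [hℓ] at hz
    exact AddSubgroup.mem_bot.1 hz

theorem nsmul_clX_card : ∀ a : LCRing T e, Nat.card T • a = 0 := by
  intro a
  induction a using cl_induction with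
  | h0 => rw [smul_zero]
  | hadd a b ha hb => rw [smul_add, ha, hb, add_zero]
  | hcl i x hx =>
    have h : ∀ m : ℕ, m • cl e i x = cl e i (x ^ m) := fun m => by
      induction m with
      | zero => rw [zero_smul, pow_zero, cl_one]
      | succ m ih => rw [succ_nsmul, pow_succ, cl_mul i (pow_mem hx m) hx, ih]
    rw [h, pow_card_eq_one', cl_one]

theorem coprime_card : p.Coprime (Nat.card T) :=
  (hS.cop.coprime_dvd_left (card_dvd_of_le (hT.le.trans (term_le b G n)))).symm

/-- The fixed points of an operator are spanned by its fixed homogeneous elements from special subgroups. -/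
theorem trace_mem {a : X} (ha : a ∈ A) (y : LCRing T e) :
    ∑ t : ZMod p, (act T e a)^[t.val] y ∈ AddSubgroup.closure (SSet b G A n T e (centralizer ({a} : Set X))) := by
  haveI := hS.comm
  set Y := AddSubgroup.closure (SSet b G A n T e (centralizer ({a} : Set X)))
  have hpow : ∀ (g : ℕ) (z : LCRing T e), act T e (a ^ (p * g)) z = z := fun g z => by
    rw [pow_mul, hS.exp a ha, one_pow, act_one]
  have hmem : y ∈ AddSubgroup.closure (SSet b G A n T e ⊤) := by rw [hS.sset_span hT]; trivial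
  induction hmem using AddSubgroup.closure_induction with
  | zero => simp [act_iterate]
  | add x y _ _ hx hy => simp only [act_iterate, map_add, Finset.sum_add_distrib] at hx hy ⊢; exact add_mem hx hy
  | neg x _ hx => simp only [act_iterate, map_neg, Finset.sum_neg_distrib] at hx ⊢; exact neg_mem hx
  | mem z hz =>
    obtain ⟨i, x, q, hq, hx, hxi, rfl⟩ := hz
    obtain ⟨hxq, -⟩ := hx
    haveI : (T.lowerCentralSeries i).Normal := term_false_eq T i ▸ term_normal false T i
    haveI : (T.lowerCentralSeries (i + 1)).Normal := term_false_eq T (i + 1) ▸ term_normal false T (i + 1)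
    set U := q.1 ⊓ T.lowerCentralSeries i with hU
    have hUA : A ≤ normalizer (U : Set X) :=
      (le_inf (hS.sp_props hq).2.1 le_normalizer_of_normal).trans Subgroup.inf_normalizer_le_normalizer_inf
    -- the trace is the class of an element of `U`
    have hw : ∀ m : ℕ, ∃ w ∈ U, ∑ t ∈ Finset.range m, act T e (a ^ t) (clX T e i x) = clX T e i w := by
      intro m
      induction m with
      | zero => exact ⟨1, one_mem _, by rw [Finset.sum_range_zero, clX_one]⟩
      | succ m ihm =>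
        obtain ⟨w, hw, he⟩ := ihm
        have h1 : a ^ m * x * (a ^ m)⁻¹ ∈ U := (mem_normalizer_iff.1 (hUA (pow_mem ha m)) x).1 ⟨hxq, hxi⟩
        refine ⟨w * (a ^ m * x * (a ^ m)⁻¹), mul_mem hw h1, ?_⟩
        rw [Finset.sum_range_succ, he, (act_clX (a ^ m) hxi), clX_mul hw.2 h1.2]
    have hsum : ∑ t : ZMod p, (act T e a)^[t.val] (clX T e i x) =
        ∑ t ∈ Finset.range p, act T e (a ^ t) (clX T e i x) := by
      simp only [act_iterate]
      exact Finset.sum_bij (fun t _ => t.val) (fun t _ => Finset.mem_range.2 (ZMod.val_lt t))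
        (fun a _ b _ h => ZMod.val_injective p h)
        (fun q hq => ⟨(q : ZMod p), Finset.mem_univ _, ZMod.val_cast_of_lt (Finset.mem_range.1 hq)⟩) fun _ _ => rfl
    obtain ⟨w, hwU, hwe⟩ := hw p
    rw [hsum, hwe]
    rcases Nat.lt_or_ge i e with hi | hi
    swap
    · rw [clX_of_le hi hwU.2]; exact zero_mem _
    have hfix : act T e a (clX T e i w) = clX T e i w := by
      rw [← hwe, map_sum]
      have h0 : ∀ t : ℕ, act T e a (act T e (a ^ t) (clX T e i x)) = act T e (a ^ (t + 1)) (clX T e i x) := fun t => by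
        rw [pow_succ', act_mul]
      simp only [h0]
      have h1 := Finset.sum_range_succ' (fun t => act T e (a ^ t) (clX T e i x)) p
      rw [Finset.sum_range_succ, hS.exp a ha, ← pow_zero a] at h1
      exact (add_right_cancel h1).symm
    have hfix' : ∀ g ∈ zpowers a, act T e g (clX T e i w) = clX T e i w := by
      intro g hg
      obtain ⟨t, rfl⟩ := mem_powers_iff_mem_zpowers.2 hg
      clear hg
      induction t with
      | zero => simp only [pow_zero, act_one]
      | succ t iht => simp only [pow_succ, act_mul, hfix] at iht ⊢; exact iht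
    have hz : zpowers a ≤ normalizer (U : Set X) := (zpowers_le.2 ha).trans hUA
    have hcop : (Nat.card (zpowers a)).Coprime (Nat.card U) :=
      (hS.coprime_of_le (inf_le_left.trans (hS.sp_le hq))).coprime_dvd_left (card_dvd_of_le (zpowers_le.2 ha))
    obtain ⟨u, hu, v, hv, hwuv⟩ := Coprime.exists_mul_centralizer_of_commutator_mem (A := zpowers a) (G := U) hz hcop
      (Or.inl (Sig.SSFT.isSolvable_zpowers a)) (N := U ⊓ T.lowerCentralSeries (i + 1)) inf_le_left
      ((le_inf hz le_normalizer_of_normal).trans Subgroup.inf_normalizer_le_normalizer_inf) (x := w) hwU (by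
      intro g hg
      have h1 : g * w * g⁻¹ ∈ U := (mem_normalizer_iff.1 (hz hg) w).1 hwU
      have h2 : ⁅w, g⁆ = w * (g * w * g⁻¹)⁻¹ := by simp [commutatorElement_def, mul_assoc]
      rw [h2]
      have h1' : g * w * g⁻¹ ∈ T.lowerCentralSeries i := h1.2
      refine ⟨U.mul_mem hwU (U.inv_mem h1), mem_succ_of_clX_eq_zero hi (mul_mem hwU.2 (inv_mem h1')) ?_⟩
      rw [clX_mul hwU.2 (inv_mem h1'), clX_inv h1', ← (act_clX g hwU.2), hfix' g hg, add_neg_cancel])
    rw [hwuv, clX_mul hu.1.2 hv.1.2, clX_eq_zero_of_mem_succ hu.2, zero_add]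
    refine AddSubgroup.subset_closure ⟨i, v, q, hq, ⟨hv.1.1, ?_⟩, hv.1.2, rfl⟩
    rw [← Local.FreeAction.centralizer_zpowers_eq]
    exact hv.2

/-- The Lie ring has derived length bounded by the parameters. -/
theorem lieDer_eq_bot :
    lieDer (⊤ : AddSubgroup (LCRing T e))
      (kLen ((2 ^ (p ^ k) * c + 1) ^ (n + c)) (p - 1) + (2 ^ (p ^ k) * c + 1) ^ (n + c)) = ⊥ := by
  haveI := hS.comm
  have hA1 : A ≠ ⊥ := fun h => by
    have h1 := hS.card
    rw [h, Subgroup.card_bot] at h1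
    have := Nat.one_lt_pow (by have := hS.hk; omega : k ≠ 0) hp.out.one_lt
    omega
  obtain ⟨a, ha, ha1⟩ := A.bot_or_exists_ne_one.resolve_left hA1
  have hW : A ≤ normalizer ((centralizer ({a} : Set X) : Subgroup X) : Set X) := by
    rw [← Local.FreeAction.centralizer_zpowers_eq]
    exact Sig.SSFT.centralizer_le_normalizer' (Sig.SSFT.abelian_le_normalizer (zpowers_le.2 ha))
  set Y := AddSubgroup.closure (SSet b G A n T e (centralizer ({a} : Set X)))
  set H := G ⊓ centralizer ({a} : Set X) with hH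
  have hder : ∀ j, lieDer Y j ≤ AddSubgroup.closure
      {z | ∃ (i : ℕ) (x : X), x ∈ term true H j ∧ x ∈ T.lowerCentralSeries i ∧ z = clX T e i x} := by
    intro j
    induction j with
    | zero =>
      refine AddSubgroup.closure_mono ?_
      rintro _ ⟨i, x, q, hq, hx, hxi, rfl⟩
      exact ⟨i, x, ⟨hS.sp_le hq hx.1, hx.2⟩, hxi, rfl⟩
    | succ j ih =>
      refine (AddSubgroup.closure_le _).2 ?_
      rintro _ ⟨u, hu, v, hv, rfl⟩
      refine bracket_mem_of_closure ?_ (ih hu) (ih hv)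
      rintro _ ⟨i, x, hx, hxi, rfl⟩ _ ⟨i', y, hy, hyi, rfl⟩
      obtain ⟨he, hm⟩ := clX_bracket (e := e) hxi hyi
      exact AddSubgroup.subset_closure ⟨_, _, commutator_mem_commutator hx hy, hm, he⟩
  have hℓ : lieDer Y (n + c) = ⊥ := by
    refine eq_bot_iff.2 ((hder _).trans ((AddSubgroup.closure_le _).2 ?_))
    rintro _ ⟨i, x, hx, -, rfl⟩
    have h : term true H (n + c) ≤ ⊥ := by
      rw [term_true_add]
      refine le_trans (term_mono true (term_true_le b _ n) c) ((term_true_le false _ c).trans ?_)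
      rw [term_false_eq, hS.hC a ha ha1]
    rw [mem_bot.1 (h hx), clX_one]
    exact zero_mem _
  refine lieDer_top_eq_bot (p := p) (φ := act T e a) (act_lie a) (fun z => ?_) (hS.coprime_card hT)
    (hS.nsmul_clX_card hT) Y (hS.trace_mem hT ha) ?_
  · rw [act_iterate, hS.exp a ha, act_one]
  · exact le_bot_iff.1 ((mulPow_closure _ _ _).trans (hS.sset_kills hT hW hℓ).le)

end Setup

/-- The bound on the class. -/
def classBound (p k c n : ℕ) : ℕ :=
  (2 ^ (p ^ k) * c + 1) ^ (kLen ((2 ^ (p ^ k) * c + 1) ^ (n + c)) (p - 1) + (2 ^ (p ^ k) * c + 1) ^ (n + c))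

/-- The term has bounded class. -/
theorem lowerCentralSeries_term_eq_bot [Finite X] {p k n c : ℕ} {b : Bool} {G A : Subgroup X} (hp : p.Prime)
    (hS : Setup p k b n c G A) : (term b G n).lowerCentralSeries (classBound p k c n) = ⊥ := by
  haveI := Fact.mk hp
  haveI := hS.normal
  haveI : (term b G n).Normal := term_normal b G n
  set N := term b G n with hN
  set B := classBound p k c n with hB
  have hder := hS.lieDer_eq_bot (T := N) (e := B + 1) hN
  rw [← hS.sset_span hN] at hder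
  have hk : mulPow (⊤ : AddSubgroup (LCRing N (B + 1))) Set.univ B = ⊥ := by
    have h := (mulPow_closure ⊤ (SSet b G A n N (B + 1) ⊤) B).trans
      (hS.sset_kills hN (W := ⊤) (fun g _ => mem_normalizer_iff.2 fun _ => ⟨fun _ => trivial, fun _ => trivial⟩) hder).le
    rw [hS.sset_span hN, AddSubgroup.coe_top] at h
    exact le_bot_iff.1 h
  have key : ∀ i, N.lowerCentralSeries i ≤ pre i (mulPow (⊤ : AddSubgroup (LCRing N (B + 1))) Set.univ i) := by
    intro i
    induction i with
    | zero => exact fun x hx => ⟨hx, AddSubgroup.mem_top _⟩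
    | succ i ih =>
      show ⁅N.lowerCentralSeries i, N⁆ ≤ _
      refine commutator_le.2 fun x hx y hy => ?_
      obtain ⟨he, hm⟩ := clX_bracket (e := B + 1) hx (show y ∈ N.lowerCentralSeries 0 from hy)
      refine ⟨hm, ?_⟩
      show clX N (B + 1) (i + 0 + 1) ⁅x, y⁆ ∈ _
      rw [← he]
      exact mem_mulPow_succ (ih hx).2 (Set.mem_univ _)
  have hstep : N.lowerCentralSeries B ≤ N.lowerCentralSeries (B + 1) := fun x hx => by
    have h := (key B hx).2
    rw [hk, AddSubgroup.mem_bot] at h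
    exact mem_succ_of_clX_eq_zero (Nat.lt_succ_self B) hx h
  have hall : ∀ j, N.lowerCentralSeries B ≤ N.lowerCentralSeries (B + j) := by
    intro j
    induction j with
    | zero => exact le_rfl
    | succ j ih => exact hstep.trans (commutator_mono ih le_rfl)
  obtain ⟨j, hj⟩ := (isNilpotent_iff_lowerCentralSeries N).1 (term_isNilpotent _ rfl hS)
  exact le_bot_iff.1 ((hall j).trans ((N.lowerCentralSeries_antitone (Nat.le_add_left j B)).trans hj.le))

end Cfsg.Lib.ElemActClass
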