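import Cfsg.Agent.Lib.Sig.SSFT.Apply
import Cfsg.Agent.Lib.Coprime.Generation

/-!
Special subgroups for a coprime elementary abelian operator group: intersections of iterated commutators of
centralizers of hyperplanes with such centralizers. They generate a term of the derived or lower central series.
-/

set_option autoImplicit false
set_option linter.unusedSectionVars false

namespace Cfsg.Lib.ElemActClass

open Subgroup
open scoped commutatorElement

universe u

variable {X : Type u} [Group X]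

/-- Terms of the derived series (`b = true`) or of the lower central series (`b = false`). -/
def term (b : Bool) (H : Subgroup X) : ℕ → Subgroup X
  | 0 => H
  | n + 1 => ⁅term b H n, cond b (term b H n) H⁆

theorem term_mono (b : Bool) {H K : Subgroup X} (h : H ≤ K) : ∀ n, term b H n ≤ term b K n := by
  intro n
  induction n with
  | zero => exact h
  | succ n ih => cases b <;> exact commutator_mono ih (by first | exact ih | exact h)

theorem map_term (b : Bool) {Y : Type*} [Group Y] (f : X →* Y) (H : Subgroup X) :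
    ∀ n, (term b H n).map f = term b (H.map f) n := by
  intro n
  induction n with
  | zero => rfl
  | succ n ih =>
    show (⁅term b H n, cond b (term b H n) H⁆).map f = ⁅term b (H.map f) n, cond b (term b (H.map f) n) (H.map f)⁆
    cases b <;> simp only [cond_true, cond_false, Subgroup.map_commutator, ih]

theorem term_le (b : Bool) (H : Subgroup X) : ∀ n, term b H n ≤ H := by
  intro n
  induction n with
  | zero => exact le_rfl
  | succ n ih => cases b <;> exact (commutator_mono ih (by first | exact ih | exact le_rfl)).trans H.commutator_le_self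

theorem term_normal (b : Bool) (H : Subgroup X) [H.Normal] : ∀ n, (term b H n).Normal := by
  intro n
  induction n with
  | zero => assumption
  | succ n ih =>
    haveI := ih
    cases b
    · exact (inferInstance : (⁅term false H n, H⁆).Normal)
    · exact (inferInstance : (⁅term true H n, term true H n⁆).Normal)

theorem term_false_eq (H : Subgroup X) : ∀ n, term false H n = H.lowerCentralSeries n := by
  intro n
  induction n with
  | zero => rfl
  | succ n ih => exact congrArg (⁅·, H⁆) ih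

theorem term_true_eq (X : Type u) [Group X] : ∀ n, term true (⊤ : Subgroup X) n = derivedSeries X n := by
  intro n
  induction n with
  | zero => rfl
  | succ n ih => exact congrArg (fun K => ⁅K, K⁆) ih

theorem term_true_add (H : Subgroup X) (i : ℕ) : ∀ j, term true H (i + j) = term true (term true H i) j := by
  intro j
  induction j with
  | zero => rfl
  | succ j ih => exact congrArg (fun K => ⁅K, K⁆) ih

theorem term_true_le (b : Bool) (H : Subgroup X) : ∀ n, term true H n ≤ term b H n := by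
  intro n
  induction n with
  | zero => exact le_rfl
  | succ n ih => cases b <;> exact commutator_mono ih (by first | exact ih | exact term_le true H n)

theorem isSolvable_of_term {H : Subgroup X} {n : ℕ} (h : term true H n = ⊥) : Group.IsSolvable H := by
  refine ⟨n, ?_⟩
  rw [← term_true_eq, ← map_eq_bot_iff_of_injective _ H.subtype_injective, map_term, ← MonoidHom.range_eq_map,
    Subgroup.range_subtype, h]

theorem exists_term_eq_bot {H : Subgroup X} (h : Group.IsSolvable H) : ∃ n, term true H n = ⊥ := by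
  obtain ⟨n, hn⟩ := h.solvable
  refine ⟨n, ?_⟩
  have h1 := map_term true H.subtype ⊤ n
  rw [term_true_eq, hn, Subgroup.map_bot, ← MonoidHom.range_eq_map, Subgroup.range_subtype] at h1
  exact h1.symm

theorem le_normalizer_commutator' {A H K : Subgroup X} (hH : A ≤ normalizer (H : Set X))
    (hK : A ≤ normalizer (K : Set X)) : A ≤ normalizer ((⁅H, K⁆ : Subgroup X) : Set X) := by
  intro a ha
  rw [mem_normalizer_iff_map_conj_eq, map_commutator, mem_normalizer_iff_map_conj_eq.mp (hH ha),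
    mem_normalizer_iff_map_conj_eq.mp (hK ha)]

theorem commutator_mem_sSup {N : Subgroup X} {x : X} {t : Set (Subgroup X)}
    (hN : ∀ S ∈ t, S ≤ normalizer (N : Set X)) (h : ∀ S ∈ t, ∀ y ∈ S, ⁅x, y⁆ ∈ N) :
    ∀ y ∈ sSup t, ⁅x, y⁆ ∈ N := by
  let K : Subgroup X :=
    { carrier := {y | y ∈ normalizer (N : Set X) ∧ ⁅x, y⁆ ∈ N}
      one_mem' := ⟨one_mem _, by simp⟩
      mul_mem' := by
        rintro y z ⟨hy, hy'⟩ ⟨hz, hz'⟩
        refine ⟨mul_mem hy hz, ?_⟩
        have e : ⁅x, y * z⁆ = ⁅x, y⁆ * (y * ⁅x, z⁆ * y⁻¹) := by simp [commutatorElement_def, mul_assoc]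
        rw [e]
        exact mul_mem hy' ((mem_normalizer_iff.mp hy _).mp hz')
      inv_mem' := by
        rintro y ⟨hy, hy'⟩
        refine ⟨inv_mem hy, ?_⟩
        have e : ⁅x, y⁻¹⁆ = y⁻¹ * ⁅x, y⁆⁻¹ * y := by simp [commutatorElement_def, mul_assoc]
        rw [e]
        exact (mem_normalizer_iff''.mp hy _).mp (inv_mem hy') }
  exact fun y hy => (sSup_le (fun S hS z hz => (⟨hN S hS hz, h S hS z hz⟩ : z ∈ K)) : sSup t ≤ K) hy |>.2

theorem commutator_sSup_le {N : Subgroup X} {s t : Set (Subgroup X)} (hs : ∀ R ∈ s, R ≤ normalizer (N : Set X))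
    (ht : ∀ S ∈ t, S ≤ normalizer (N : Set X)) (h : ∀ R ∈ s, ∀ S ∈ t, ⁅R, S⁆ ≤ N) : ⁅sSup s, sSup t⁆ ≤ N := by
  refine commutator_le.2 fun x hx y hy => ?_
  have h1 : ∀ R ∈ s, ∀ z ∈ R, ⁅y, z⁆ ∈ N := fun R hR z hz => by
    rw [← commutatorElement_inv z y]
    exact inv_mem (commutator_mem_sSup ht (fun S hS w hw => h R hR S hS (commutator_mem_commutator hz hw)) y hy)
  rw [← commutatorElement_inv y x]
  exact inv_mem (commutator_mem_sSup hs h1 x hx)

/-- The special pairs: a subgroup and a subgroup of `A` centralizing it. -/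
def Sp (b : Bool) (G A : Subgroup X) : ℕ → Set (Subgroup X × Subgroup X)
  | 0 => {q | q.2 ∈ Coprime.cocyclic A ∧ q.1 = G ⊓ centralizer (q.2 : Set X)}
  | n + 1 => {q | ∃ q₁ ∈ Sp b G A n, ∃ q₂ ∈ cond b (Sp b G A n) (Sp b G A 0), ∃ B ∈ Coprime.cocyclic A,
      q.1 = ⁅q₁.1, q₂.1⁆ ⊓ centralizer (B : Set X) ∧ q.2 = q₁.2 ⊓ q₂.2}

theorem mem_sp_zero {b : Bool} {G A : Subgroup X} {q : Subgroup X × Subgroup X} :
    q ∈ Sp b G A 0 ↔ q.2 ∈ Coprime.cocyclic A ∧ q.1 = G ⊓ centralizer (q.2 : Set X) := by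
  rw [Sp, Set.mem_ofPred_eq]

theorem mem_sp_succ {b : Bool} {G A : Subgroup X} {n : ℕ} {q : Subgroup X × Subgroup X} :
    q ∈ Sp b G A (n + 1) ↔ ∃ q₁ ∈ Sp b G A n, ∃ q₂ ∈ cond b (Sp b G A n) (Sp b G A 0), ∃ B ∈ Coprime.cocyclic A,
      q.1 = ⁅q₁.1, q₂.1⁆ ⊓ centralizer (B : Set X) ∧ q.2 = q₁.2 ⊓ q₂.2 := by
  conv_lhs => rw [Sp]
  rfl

/-- The exponent bounding the index of the operators attached to a special subgroup. -/
def eIdx (b : Bool) : ℕ → ℕ
  | 0 => 1
  | n + 1 => eIdx b n + cond b (eIdx b n) 1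

theorem eIdx_true : ∀ n, eIdx true n = 2 ^ n := by
  intro n
  induction n with
  | zero => rfl
  | succ n ih => show eIdx true n + eIdx true n = _; rw [ih, pow_succ]; omega

theorem eIdx_false : ∀ n, eIdx false n = n + 1 := by
  intro n
  induction n with
  | zero => rfl
  | succ n ih => show eIdx false n + 1 = _; rw [ih]

/-- An elementary abelian coprime operator group whose centralizers have nilpotent terms. -/
structure Setup (p k : ℕ) (b : Bool) (n c : ℕ) (G A : Subgroup X) : Prop where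
  hA : Cfsg.IsElementaryAbelian p A
  card : Nat.card A = p ^ k
  normal : G.Normal
  cop : (Nat.card G).Coprime p
  hk : eIdx b n + 2 ≤ k
  hC : ∀ a ∈ A, a ≠ 1 → (term b (G ⊓ centralizer ({a} : Set X)) n).lowerCentralSeries c = ⊥

namespace Setup

variable [Finite X] {p k n c : ℕ} {b : Bool} {G A : Subgroup X} [hp : Fact p.Prime] (hS : Setup p k b n c G A)
include hS

theorem comm : IsMulCommutative A := hS.hA.1

theorem exp : ∀ a ∈ A, a ^ p = 1 := hS.hA.2

theorem coprime_of_le {H : Subgroup X} (h : H ≤ G) : (Nat.card A).Coprime (Nat.card H) := by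
  rw [hS.card]
  exact ((hS.cop.coprime_dvd_left (card_dvd_of_le h)).symm).pow_left k

theorem le_normalizer : A ≤ normalizer (G : Set X) := by
  haveI := hS.normal
  exact le_normalizer_of_normal

theorem le_iSup_centralizer {H : Subgroup X} (hHG : H ≤ G) (hH : A ≤ normalizer (H : Set X)) :
    H ≤ ⨆ B ∈ Coprime.cocyclic A, H ⊓ centralizer (B : Set X) := by
  haveI := hS.comm
  exact Coprime.le_iSup_centralizer_cocyclic H hH (hS.coprime_of_le hHG)

theorem sp_props : ∀ {j : ℕ} {q : Subgroup X × Subgroup X}, q ∈ Sp b G A j →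
    q.2 ≤ A ∧ A ≤ normalizer (q.1 : Set X) ∧ q.1 ≤ term b (G ⊓ centralizer (q.2 : Set X)) j ∧
      p ^ k ≤ p ^ eIdx b j * Nat.card q.2 := by
  haveI := hS.comm
  intro j
  induction j with
  | zero =>
    intro q hq
    obtain ⟨hB, hq⟩ := mem_sp_zero.1 hq
    refine ⟨hB.1, ?_, hq.le, ?_⟩
    · rw [hq]
      exact Coprime.le_normalizer_inf_centralizer hS.le_normalizer (Sig.SSFT.abelian_le_normalizer hB.1)
    · rw [← hS.card]
      show _ ≤ p ^ 1 * _
      rw [pow_one]
      exact Sig.SSFT.card_le_mul_of_cocyclic hS.exp hB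
  | succ j ih =>
    intro q hq
    obtain ⟨q₁, hq₁, q₂, hq₂, B, hB, hq, hq'⟩ := mem_sp_succ.1 hq
    obtain ⟨d₁, a₁, t₁, e₁⟩ := ih hq₁
    have h2 : q₂.2 ≤ A ∧ A ≤ normalizer (q₂.1 : Set X) ∧
        q₂.1 ≤ cond b (term b (G ⊓ centralizer (q₂.2 : Set X)) j) (G ⊓ centralizer (q₂.2 : Set X)) ∧
        p ^ k ≤ p ^ (cond b (eIdx b j) 1) * Nat.card q₂.2 := by
      cases b
      · obtain ⟨hB₂, hq₂'⟩ := mem_sp_zero.1 hq₂
        refine ⟨hB₂.1, ?_, hq₂'.le, ?_⟩
        · rw [hq₂']
          exact Coprime.le_normalizer_inf_centralizer hS.le_normalizer (Sig.SSFT.abelian_le_normalizer hB₂.1)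
        · rw [← hS.card, cond_false, pow_one]
          exact Sig.SSFT.card_le_mul_of_cocyclic hS.exp hB₂
      · exact ih hq₂
    obtain ⟨d₂, a₂, t₂, e₂⟩ := h2
    rw [hq, hq']
    refine ⟨inf_le_left.trans d₁, Coprime.le_normalizer_inf_centralizer (le_normalizer_commutator' a₁ a₂)
      (Sig.SSFT.abelian_le_normalizer hB.1), inf_le_left.trans ?_, ?_⟩
    · have m₁ : G ⊓ centralizer (q₁.2 : Set X) ≤ G ⊓ centralizer ((q₁.2 ⊓ q₂.2 : Subgroup X) : Set X) :=
        inf_le_inf_left _ (centralizer_le (inf_le_left : q₁.2 ⊓ q₂.2 ≤ q₁.2))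
      have m₂ : G ⊓ centralizer (q₂.2 : Set X) ≤ G ⊓ centralizer ((q₁.2 ⊓ q₂.2 : Subgroup X) : Set X) :=
        inf_le_inf_left _ (centralizer_le (inf_le_right : q₁.2 ⊓ q₂.2 ≤ q₂.2))
      refine commutator_mono (t₁.trans (term_mono b m₁ j)) (t₂.trans ?_)
      cases b
      · exact m₂
      · exact term_mono true m₂ j
    · have hrel : ∀ D : Subgroup X, D ≤ A → Nat.card D * D.relIndex A = p ^ k := fun D hD => by
        rw [← hS.card, ← Nat.card_congr (subgroupOfEquivOfLe hD).toEquiv]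
        exact (D.subgroupOf A).card_mul_index
      have h₁ : q₁.2.relIndex A ≤ p ^ eIdx b j := by
        refine Nat.le_of_mul_le_mul_left ?_ (Nat.card_pos (α := q₁.2))
        rw [hrel _ d₁, mul_comm]
        exact e₁
      have h₂ : q₂.2.relIndex A ≤ p ^ (cond b (eIdx b j) 1) := by
        refine Nat.le_of_mul_le_mul_left ?_ (Nat.card_pos (α := q₂.2))
        rw [hrel _ d₂, mul_comm]
        exact e₂
      rw [← hrel _ (inf_le_left.trans d₁), mul_comm (p ^ eIdx b (j + 1))]
      refine Nat.mul_le_mul_left _ (relIndex_inf_le.trans ((Nat.mul_le_mul h₁ h₂).trans (le_of_eq ?_)))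
      rw [← pow_add]
      rfl

theorem sp_le {j : ℕ} {q : Subgroup X × Subgroup X} (hq : q ∈ Sp b G A j) : q.1 ≤ G :=
  (hS.sp_props hq).2.2.1.trans ((term_le b _ j).trans inf_le_left)

theorem sp_mono : ∀ {j : ℕ} {q : Subgroup X × Subgroup X}, q ∈ Sp b G A (j + 1) →
    ∃ q' ∈ Sp b G A j, q.1 ≤ q'.1 := by
  intro j
  induction j with
  | zero =>
    intro q hq
    obtain ⟨q₁, hq₁, q₂, hq₂, B, hB, hq, -⟩ := mem_sp_succ.1 hq
    refine ⟨(G ⊓ centralizer (B : Set X), B), mem_sp_zero.2 ⟨hB, rfl⟩, ?_⟩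
    have h2 : q₂.1 ≤ G := by cases b <;> exact hS.sp_le hq₂
    rw [hq]
    exact inf_le_inf_right _ ((commutator_mono (hS.sp_le hq₁) h2).trans G.commutator_le_self)
  | succ j ih =>
    intro q hq
    obtain ⟨q₁, hq₁, q₂, hq₂, B, hB, hq, -⟩ := mem_sp_succ.1 hq
    obtain ⟨r₁, hr₁, hle₁⟩ := ih hq₁
    have h2 : ∃ r₂ ∈ cond b (Sp b G A j) (Sp b G A 0), q₂.1 ≤ r₂.1 := by
      cases b
      · exact ⟨q₂, hq₂, le_rfl⟩
      · exact ih hq₂
    obtain ⟨r₂, hr₂, hle₂⟩ := h2
    refine ⟨(⁅r₁.1, r₂.1⁆ ⊓ centralizer (B : Set X), r₁.2 ⊓ r₂.2),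
      mem_sp_succ.2 ⟨r₁, hr₁, r₂, hr₂, B, hB, rfl, rfl⟩, ?_⟩
    rw [hq]
    exact inf_le_inf_right _ (commutator_mono hle₁ hle₂)

theorem sp_zero : ∀ {j : ℕ} {q : Subgroup X × Subgroup X}, q ∈ Sp b G A j → ∃ q' ∈ Sp b G A 0, q.1 ≤ q'.1 := by
  intro j
  induction j with
  | zero => exact fun hq => ⟨_, hq, le_rfl⟩
  | succ j ih =>
    intro q hq
    obtain ⟨q', hq', hle⟩ := hS.sp_mono hq
    obtain ⟨q'', hq'', hle'⟩ := ih hq'
    exact ⟨q'', hq'', hle.trans hle'⟩

theorem sp_cond {j : ℕ} {q : Subgroup X × Subgroup X} (hq : q ∈ Sp b G A j) :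
    ∃ q' ∈ cond b (Sp b G A j) (Sp b G A 0), q.1 ≤ q'.1 := by
  cases b
  · exact hS.sp_zero hq
  · exact ⟨q, hq, le_rfl⟩

/-- A subgroup of the commutator of two special subgroups that is invariant lies in the join of its intersections
with special subgroups of the next level. -/
theorem le_of_inv {j : ℕ} {q₁ q₂ : Subgroup X × Subgroup X} (hq₁ : q₁ ∈ Sp b G A j)
    (hq₂ : q₂ ∈ cond b (Sp b G A j) (Sp b G A 0)) {W : Subgroup X} (hW : W ≤ ⁅q₁.1, q₂.1⁆)
    (hAW : A ≤ normalizer (W : Set X)) {T : Subgroup X}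
    (h : ∀ q ∈ Sp b G A (j + 1), W ⊓ q.1 ≤ T) : W ≤ T := by
  have h2 : q₂.1 ≤ G := by cases b <;> exact hS.sp_le hq₂
  refine (hS.le_iSup_centralizer (hW.trans ((commutator_mono (hS.sp_le hq₁) h2).trans G.commutator_le_self))
    hAW).trans (iSup₂_le fun B hB => ?_)
  refine le_trans (le_inf inf_le_left ?_) (h (⁅q₁.1, q₂.1⁆ ⊓ centralizer (B : Set X), q₁.2 ⊓ q₂.2)
    (mem_sp_succ.2 ⟨q₁, hq₁, q₂, hq₂, B, hB, rfl, rfl⟩))
  exact inf_le_inf_right _ hW

/-- The special subgroups generate the corresponding term. -/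
theorem term_eq_sSup : ∀ j, term b G j = sSup (Prod.fst '' Sp b G A j) := by
  intro j
  refine le_antisymm ?_ (sSup_le ?_)
  swap
  · rintro _ ⟨q, hq, rfl⟩
    exact (hS.sp_props hq).2.2.1.trans (term_mono b inf_le_left j)
  induction j with
  | zero =>
    refine (hS.le_iSup_centralizer le_rfl hS.le_normalizer).trans (iSup₂_le fun B hB => le_sSup ?_)
    exact ⟨(G ⊓ centralizer (B : Set X), B), mem_sp_zero.2 ⟨hB, rfl⟩, rfl⟩
  | succ j ih =>
    set U := sSup (Prod.fst '' Sp b G A (j + 1))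
    have hbr : ∀ q₁ ∈ Sp b G A j, ∀ q₂ ∈ cond b (Sp b G A j) (Sp b G A 0), ⁅q₁.1, q₂.1⁆ ≤ U := by
      intro q₁ hq₁ q₂ hq₂
      have a2 : A ≤ normalizer (q₂.1 : Set X) := by cases b <;> exact (hS.sp_props hq₂).2.1
      exact hS.le_of_inv hq₁ hq₂ le_rfl (le_normalizer_commutator' (hS.sp_props hq₁).2.1 a2)
        fun q hq => inf_le_right.trans (le_sSup ⟨q, hq, rfl⟩)
    have hnorm : ∀ q₂ ∈ cond b (Sp b G A j) (Sp b G A 0), q₂.1 ≤ normalizer (U : Set X) := by
      intro q₂ hq₂
      rw [le_normalizer_iff_commutator_le_left]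
      refine commutator_le.2 fun x hx y hy => ?_
      rw [← commutatorElement_inv y x]
      refine inv_mem ?_
      have hgen : ∀ R ∈ Prod.fst '' Sp b G A (j + 1), ∀ z ∈ R, ⁅y, z⁆ ∈ U := by
        rintro _ ⟨q, hq, rfl⟩ z hz
        obtain ⟨q', hq', hle⟩ := hS.sp_mono hq
        rw [← commutatorElement_inv z y]
        exact inv_mem (hbr q' hq' q₂ hq₂ (commutator_mem_commutator (hle hz) hy))
      exact commutator_mem_sSup (fun R hR => (le_sSup hR : R ≤ U).trans Subgroup.le_normalizer) hgen x hx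
    have hnorm' : ∀ q ∈ Sp b G A j, q.1 ≤ normalizer (U : Set X) := fun q hq => by
      obtain ⟨q', hq', hle⟩ := hS.sp_cond hq
      exact hle.trans (hnorm q' hq')
    have hU : ⁅sSup (Prod.fst '' Sp b G A j), sSup (Prod.fst '' cond b (Sp b G A j) (Sp b G A 0))⁆ ≤ U := by
      refine commutator_sSup_le ?_ ?_ ?_
      · rintro _ ⟨q, hq, rfl⟩; exact hnorm' q hq
      · rintro _ ⟨q, hq, rfl⟩; exact hnorm q hq
      · rintro _ ⟨q₁, hq₁, rfl⟩ _ ⟨q₂, hq₂, rfl⟩; exact hbr q₁ hq₁ q₂ hq₂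
    refine le_trans (commutator_mono ih ?_) hU
    cases b
    · refine (hS.le_iSup_centralizer le_rfl hS.le_normalizer).trans (iSup₂_le fun B hB => le_sSup ?_)
      exact ⟨(G ⊓ centralizer (B : Set X), B), mem_sp_zero.2 ⟨hB, rfl⟩, rfl⟩
    · exact ih

/-- A special subgroup of the last level lies in the term for some operator in a given hyperplane. -/
theorem exists_common {q : Subgroup X × Subgroup X} (hq : q ∈ Sp b G A n) {B : Subgroup X}
    (hB : B ∈ Coprime.cocyclic A) :
    ∃ a ∈ A, a ≠ 1 ∧ a ∈ B ∧ a ∈ q.2 ∧ q.1 ≤ term b (G ⊓ centralizer ({a} : Set X)) n := by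
  haveI := hS.comm
  obtain ⟨hD, -, ht, hcard⟩ := hS.sp_props hq
  have hne : B ⊓ q.2 ≠ ⊥ := by
    intro h
    have h1 : Nat.card B * Nat.card q.2 ≤ p ^ k := by
      rw [← hS.card, ← Coprime.card_sup_of_disjoint (hD.trans (Sig.SSFT.abelian_le_normalizer hB.1))
        (disjoint_iff.mpr h)]
      exact card_le_of_le (sup_le hB.1 hD)
    have h2 := Sig.SSFT.card_le_mul_of_cocyclic hS.exp hB
    rw [hS.card] at h2
    have h3 : p ^ k * p ^ k ≤ p ^ (eIdx b n + 1) * p ^ k :=
      calc p ^ k * p ^ k ≤ (p * Nat.card B) * (p ^ eIdx b n * Nat.card q.2) := Nat.mul_le_mul h2 hcard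
        _ = p ^ (eIdx b n + 1) * (Nat.card B * Nat.card q.2) := by ring
        _ ≤ _ := Nat.mul_le_mul_left _ h1
    have h4 := (Nat.pow_le_pow_iff_right hp.out.one_lt).mp (Nat.le_of_mul_le_mul_right h3 (pow_pos hp.out.pos k))
    have := hS.hk
    omega
  obtain ⟨a, ha, ha1⟩ := (B ⊓ q.2).bot_or_exists_ne_one.resolve_left hne
  exact ⟨a, hB.1 ha.1, ha1, ha.1, ha.2, ht.trans
    (term_mono b (inf_le_inf_left _ (centralizer_le (Set.singleton_subset_iff.mpr ha.2))) n)⟩

theorem isSolvable : Group.IsSolvable G := by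
  refine Sig.SSFT.isSolvable_of_centralizers (A := A) hS.hA ?_ hS.cop hS.le_normalizer fun a ha ha1 => ?_
  · rw [hS.card]
    refine Nat.pow_le_pow_right hp.out.pos ?_
    have h1 : 1 ≤ eIdx b n := by
      cases n with
      | zero => exact le_rfl
      | succ j => show 1 ≤ eIdx b j + _; cases b <;> simp [eIdx_false, eIdx_true, Nat.one_le_two_pow, Nat.le_add_right_of_le]
    have := hS.hk
    omega
  · refine isSolvable_of_term (n := n + c) (eq_bot_iff.2 ?_)
    rw [term_true_add]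
    refine le_trans (term_mono true (term_true_le b _ n) c) ?_
    refine (term_true_le false _ c).trans ?_
    rw [term_false_eq, hS.hC a ha ha1]

end Setup

end Cfsg.Lib.ElemActClass
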